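import Mathlib
import Cfsg.Agent.H10.FO.Defs3

/-!
helper91: piece F3-NORMP of helper10's project S2080 (generic-prime version of helper20's
`Cfsg.Agent.H20.FO.norm13`).  For `x` of prime order `p` with `C(x) = ⟨x⟩`, `|G| = p m`,
`m % p = s ≠ 0`: Sylow's congruence forces `|N(⟨x⟩) : C(x)| = s`, so `x` is conjugate to `x ^ k`
whenever `k ^ s ≡ 1 (mod p)`.
-/

set_option autoImplicit false

namespace Cfsg.Agent.H91.FO

open Subgroup

universe u

/-- The residues `j < p` with `j ^ s ≡ 1 (mod p)`. -/
def rootsMod (p s : ℕ) : Finset ℕ := (Finset.range p).filter (fun j => j ^ s % p = 1)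

theorem card_rootsMod_le (p s : ℕ) (hp : p.Prime) (hs : s ≠ 0) : (rootsMod p s).card ≤ s := by
  classical
  have : Fact p.Prime := ⟨hp⟩
  have h1 : (rootsMod p s).card ≤ (Polynomial.nthRoots s (1 : ZMod p)).toFinset.card := by
    apply Finset.card_le_card_of_injOn (fun j : ℕ => (j : ZMod p))
    · intro j hj
      have hj' := Finset.mem_filter.mp hj
      rw [Finset.mem_coe, Multiset.mem_toFinset, Polynomial.mem_nthRoots (Nat.pos_of_ne_zero hs)]
      have h2 : ((j ^ s % p : ℕ) : ZMod p) = ((1 : ℕ) : ZMod p) := by rw [hj'.2]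
      rw [ZMod.natCast_mod] at h2
      simpa using h2
    · intro j hj j' hj' h
      have hj1 := Finset.mem_range.mp (Finset.mem_filter.mp hj).1
      have hj2 := Finset.mem_range.mp (Finset.mem_filter.mp hj').1
      have h3 : ((j : ZMod p)).val = ((j' : ZMod p)).val := by
        have h4 : (j : ZMod p) = (j' : ZMod p) := h
        rw [h4]
      rwa [ZMod.val_natCast_of_lt hj1, ZMod.val_natCast_of_lt hj2] at h3
  exact h1.trans ((Multiset.toFinset_card_le _).trans (Polynomial.card_nthRoots s 1))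

theorem normP : Cfsg.Agent.H10.FO.StNormP.{u} := by
  intro G _ _ p x m s hpp hG hm hs0 hxp hx1 hC k hk
  classical
  have hp : Fact (Nat.Prime p) := ⟨hpp⟩
  have hp0 : 0 < p := hpp.pos
  have hord : orderOf x = p := orderOf_eq_prime hxp hx1
  have hPcard : Nat.card (zpowers x) = p := by rw [Nat.card_zpowers, hord]
  have hxP : x ∈ zpowers x := mem_zpowers x
  have hPpow : ∀ y ∈ zpowers x, ∃ i : ℕ, y = x ^ i := by
    intro y hy
    rw [← mem_powers_iff_mem_zpowers] at hy
    obtain ⟨i, rfl⟩ := hy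
    exact ⟨i, rfl⟩
  have hCP : centralizer ((zpowers x : Subgroup G) : Set G) = zpowers x := by
    apply le_antisymm
    · intro g hg
      obtain ⟨i, rfl⟩ := hC g (hg x hxP).symm
      exact pow_mem hxP i
    · intro g hg y hy
      obtain ⟨i, rfl⟩ := hPpow g hg
      obtain ⟨j, rfl⟩ := hPpow y hy
      rw [← pow_add, ← pow_add, add_comm]
  have hmp : ¬ p ∣ m := by
    intro hdvd
    have := Nat.mod_eq_zero_of_dvd hdvd
    omega
  have hPp : IsPGroup p (zpowers x) := IsPGroup.of_card (n := 1) (by rw [hPcard, pow_one])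
  obtain ⟨Q, hPQ⟩ := hPp.exists_le_sylow
  have hQcard : Nat.card (Q : Subgroup G) = p := by
    have hm0 : m ≠ 0 := by rintro rfl; exact hmp (dvd_zero p)
    rw [Sylow.card_eq_multiplicity, hG, Nat.factorization_mul hpp.ne_zero hm0]
    simp [Nat.factorization_eq_zero_of_not_dvd hmp, hpp.factorization_self]
  have hQP : zpowers x = (Q : Subgroup G) :=
    Subgroup.eq_of_le_of_card_ge hPQ (by rw [hQcard, hPcard])
  have hn1 : Nat.card (Sylow p G) = (normalizer ((Q : Subgroup G) : Set G)).index :=
    Sylow.card_eq_index_normalizer Q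
  have hn2 : Nat.card (Sylow p G) ≡ 1 [MOD p] := card_sylow_modEq_one p G
  rw [← hQP] at hn1
  have hCN : centralizer ((zpowers x : Subgroup G) : Set G) ≤
      normalizer ((zpowers x : Subgroup G) : Set G) := centralizer_le_normalizer _
  have hs12 : (centralizer ((zpowers x : Subgroup G) : Set G)).relIndex
      (normalizer ((zpowers x : Subgroup G) : Set G)) ∣ p - 1 := by
    have key := card_dvd_of_injective _
      (QuotientGroup.kerLift_injective (zpowers x).normalizerMonoidHom)
    rw [normalizerMonoidHom_ker, ← index, ← relIndex] at key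
    have hcyc : IsCyclic (zpowers x) := isCyclic_of_prime_card hPcard
    rw [IsCyclic.card_mulAut, hPcard, Nat.totient_prime hpp] at key
    exact key
  have hNcard : Nat.card (centralizer ((zpowers x : Subgroup G) : Set G)) *
      (centralizer ((zpowers x : Subgroup G) : Set G)).relIndex
        (normalizer ((zpowers x : Subgroup G) : Set G)) =
      Nat.card (normalizer ((zpowers x : Subgroup G) : Set G)) := by
    have := Subgroup.card_mul_index ((centralizer ((zpowers x : Subgroup G) : Set G)).subgroupOf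
      (normalizer ((zpowers x : Subgroup G) : Set G)))
    rw [← this]
    congr 1
    exact (Nat.card_congr (Subgroup.subgroupOfEquivOfLe hCN).toEquiv).symm
  rw [hCP] at hs12 hNcard
  rw [hPcard] at hNcard
  have h5 := (normalizer ((zpowers x : Subgroup G) : Set G)).card_mul_index
  rw [hG, ← hn1, ← hNcard] at h5
  have hs6 : (zpowers x).relIndex (normalizer ((zpowers x : Subgroup G) : Set G)) = s := by
    have hn2' : Nat.card (Sylow p G) % p = 1 % p := hn2
    have h6 : (zpowers x).relIndex (normalizer ((zpowers x : Subgroup G) : Set G)) *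
        Nat.card (Sylow p G) = m := by
      have h13 : p * ((zpowers x).relIndex (normalizer ((zpowers x : Subgroup G) : Set G)) *
          Nat.card (Sylow p G)) = p * m := by rw [← h5]; ring
      exact Nat.eq_of_mul_eq_mul_left hp0 h13
    have h7 : ((zpowers x).relIndex (normalizer ((zpowers x : Subgroup G) : Set G)) *
        Nat.card (Sylow p G)) % p = s := by rw [h6]; exact hm
    rw [Nat.mul_mod, hn2', ← Nat.mul_mod, mul_one] at h7
    have hle : (zpowers x).relIndex (normalizer ((zpowers x : Subgroup G) : Set G)) ≤ p - 1 :=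
      Nat.le_of_dvd (by have := hpp.two_le; omega) hs12
    rw [Nat.mod_eq_of_lt (by omega)] at h7
    exact h7
  have hRcard : Nat.card (zpowers x).normalizerMonoidHom.range = s := by
    rw [← Subgroup.index_ker, normalizerMonoidHom_ker, hCP]
    exact hs6
  have hT : ∀ τ : (zpowers x).normalizerMonoidHom.range,
      (((τ.1 ⟨x, hxP⟩ : zpowers x) : G)) ∈ (rootsMod p s).image (fun j => x ^ j) := by
    intro τ
    have h6 : τ.1 ^ s = 1 := by
      have h := pow_card_eq_one' (G := (zpowers x).normalizerMonoidHom.range) (x := τ)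
      rw [hRcard] at h
      exact_mod_cast congrArg Subtype.val h
    obtain ⟨j, hj⟩ := hPpow _ (τ.1 ⟨x, hxP⟩).2
    have hpow : ∀ n : ℕ, (((τ.1 ^ n) ⟨x, hxP⟩ : zpowers x) : G) = x ^ (j ^ n) := by
      intro n
      induction n with
      | zero => simp
      | succ n ih =>
        rw [pow_succ', MulAut.mul_apply]
        have h1 : (τ.1 ^ n) ⟨x, hxP⟩ = (⟨x, hxP⟩ : zpowers x) ^ (j ^ n) :=
          Subtype.ext (by rw [ih]; simp)
        rw [h1, map_pow]
        simp only [SubmonoidClass.coe_pow, hj]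
        rw [← pow_mul, pow_succ']
    have h1 := hpow s
    rw [h6] at h1
    simp only [MulAut.one_apply] at h1
    have hmod : j ^ s ≡ 1 [MOD p] := by
      rw [← hord]
      apply (pow_eq_pow_iff_modEq (x := x)).1
      rw [pow_one]; exact h1.symm
    have hjp : (j % p) ^ s % p = 1 := by
      have h2 : j ^ s % p = 1 % p := hmod
      rw [Nat.mod_eq_of_lt hpp.one_lt] at h2
      rwa [Nat.pow_mod] at h2
    refine Finset.mem_image.2 ⟨j % p, Finset.mem_filter.mpr
      ⟨Finset.mem_range.mpr (Nat.mod_lt _ hp0), hjp⟩, ?_⟩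
    show x ^ (j % p) = _
    rw [hj, ← hord, pow_mod_orderOf]
  let f : (zpowers x).normalizerMonoidHom.range →
      ((rootsMod p s).image (fun j => x ^ j) : Finset G) :=
    fun τ => ⟨_, hT τ⟩
  have hf : Function.Injective f := by
    intro τ₁ τ₂ h
    have h0 : ((f τ₁ : G)) = ((f τ₂ : G)) := by rw [h]
    have h' : ((τ₁.1 ⟨x, hxP⟩ : zpowers x) : G) = ((τ₂.1 ⟨x, hxP⟩ : zpowers x) : G) := h0
    apply Subtype.ext
    apply MulEquiv.ext
    intro y
    obtain ⟨i, hi⟩ := hPpow y.1 y.2
    have hy : y = (⟨x, hxP⟩ : zpowers x) ^ i := Subtype.ext (by simp [hi])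
    rw [hy, map_pow, map_pow]
    congr 1
    exact Subtype.ext h'
  have hbij := hf.bijective_of_nat_card_le (by
    rw [hRcard, Nat.card_eq_fintype_card, Fintype.card_coe]
    exact Finset.card_image_le.trans (card_rootsMod_le p s hpp hs0))
  have hkT : x ^ k ∈ (rootsMod p s).image (fun j => x ^ j) := by
    refine Finset.mem_image.2 ⟨k % p, Finset.mem_filter.mpr
      ⟨Finset.mem_range.mpr (Nat.mod_lt _ hp0), ?_⟩, ?_⟩
    · rwa [Nat.pow_mod] at hk
    · show x ^ (k % p) = x ^ k
      rw [← hord, pow_mod_orderOf]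
  obtain ⟨τ, hτ⟩ := hbij.2 ⟨x ^ k, hkT⟩
  obtain ⟨ν, hν⟩ := τ.2
  refine ⟨ν.1, ?_⟩
  have h := congrArg Subtype.val hτ
  have h2 : ((τ.1 ⟨x, hxP⟩ : zpowers x) : G) = x ^ k := h
  rw [← hν] at h2
  exact h2

example : ∀ (G : Type u) [Group G] [Finite G] (p : ℕ) (x : G) (m s : ℕ),
    p.Prime → Nat.card G = p * m → m % p = s → s ≠ 0 → x ^ p = 1 → x ≠ 1 →
    (∀ g : G, g * x = x * g → ∃ i : ℕ, g = x ^ i) →
    ∀ k : ℕ, k ^ s % p = 1 → ∃ ν : G, ν * x * ν⁻¹ = x ^ k := normP.{u}

end Cfsg.Agent.H91.FO
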