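import Mathlib
import Cfsg.Agent.H10.FO.Defs3

/-!
helper91: piece F3-OUT1P of helper10's project S2080 (generic-prime, trivial-`Out` version of
helper20's `Cfsg.Agent.H20.FO.out2`).  If `p = 2 s + 1` with `s` odd, `x` of order `p` generates a
Sylow subgroup and is conjugate to `x ^ k` whenever `k ^ s ≡ 1 (mod p)`, every automorphism fixing
`x` is inner and no automorphism inverts `x`, then `Out(G)` is trivial.
-/

set_option autoImplicit false

namespace Cfsg.Agent.H91.FO

open Subgroup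

universe u

theorem pow_half_res (p s k : ℕ) (hp : p.Prime) (hps : p = 2 * s + 1) (hs : s % 2 = 1)
    (hk : ¬ p ∣ k) : k ^ s % p = 1 ∨ ((p - 1) * k) ^ s % p = 1 := by
  have : Fact p.Prime := ⟨hp⟩
  have ha : (k : ZMod p) ≠ 0 := by
    rw [Ne, ZMod.natCast_eq_zero_iff]
    exact hk
  have h1 : (k : ZMod p) ^ (p - 1) = 1 := ZMod.pow_card_sub_one_eq_one ha
  have h2 : ((k : ZMod p) ^ s) * ((k : ZMod p) ^ s) = 1 := by
    rw [← pow_add, ← h1]
    congr 1
    omega
  have hcast : ∀ n : ℕ, ((n : ℕ) : ZMod p) = ((1 : ℕ) : ZMod p) → n % p = 1 := by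
    intro n hn
    have h5 : n % p = 1 % p := (ZMod.natCast_eq_natCast_iff _ _ _).mp hn
    rwa [Nat.mod_eq_of_lt hp.one_lt] at h5
  rcases mul_self_eq_one_iff.mp h2 with h3 | h3
  · left
    apply hcast
    rw [Nat.cast_pow, h3, Nat.cast_one]
  · right
    apply hcast
    have hp1 : ((p - 1 : ℕ) : ZMod p) = -1 := by
      rw [Nat.cast_sub hp.one_le]
      simp
    have hodd : Odd s := Nat.odd_iff.mpr hs
    rw [Nat.cast_pow, Nat.cast_mul, hp1, neg_one_mul, Odd.neg_pow hodd, h3, neg_neg,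
      Nat.cast_one]

theorem out1P : Cfsg.Agent.H10.FO.StOut1P.{u} := by
  intro G _ _ p x m s hpp hG hm hps hs hxp hx1 hν hinn hnoinv
  classical
  have hp : Fact (Nat.Prime p) := ⟨hpp⟩
  have hord : orderOf x = p := orderOf_eq_prime hxp hx1
  have hs1 : 1 ≤ s := by omega
  have hA : ∀ α : MulAut G, ∃ (g : G) (k : ℕ), ¬ p ∣ k ∧ g * α x * g⁻¹ = x ^ k := by
    intro α
    have hordα : orderOf (α x) = p := by rw [MulEquiv.orderOf_eq, hord]
    have hcard : ∀ y : G, orderOf y = p → Nat.card (zpowers y) = p := fun y hy => by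
      rw [Nat.card_zpowers, hy]
    have hm0 : m ≠ 0 := by rintro rfl; exact hm (dvd_zero p)
    have hQcard : ∀ Q : Sylow p G, Nat.card (Q : Subgroup G) = p := by
      intro Q
      rw [Sylow.card_eq_multiplicity, hG, Nat.factorization_mul hpp.ne_zero hm0]
      simp [Nat.factorization_eq_zero_of_not_dvd hm, hpp.factorization_self]
    have hsyl : ∀ y : G, orderOf y = p → ∃ Q : Sylow p G, zpowers y = (Q : Subgroup G) := by
      intro y hy
      have hPp : IsPGroup p (zpowers y) :=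
        IsPGroup.of_card (n := 1) (by rw [hcard y hy, pow_one])
      obtain ⟨Q, hPQ⟩ := hPp.exists_le_sylow
      exact ⟨Q, Subgroup.eq_of_le_of_card_ge hPQ (by rw [hQcard, hcard y hy])⟩
    obtain ⟨Q, hQ⟩ := hsyl x hord
    obtain ⟨Q', hQ'⟩ := hsyl (α x) hordα
    obtain ⟨g, hg⟩ := MulAction.exists_smul_eq G Q' Q
    have hmem : g * α x * g⁻¹ ∈ (Q : Subgroup G) := by
      rw [← hg, Sylow.coe_subgroup_smul]
      have h1 : α x ∈ (Q' : Subgroup G) := hQ' ▸ mem_zpowers _
      have h2 := Subgroup.smul_mem_pointwise_smul (α x) (MulAut.conj g) (Q' : Subgroup G) h1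
      simpa [MulAut.smul_def] using h2
    rw [← hQ, ← mem_powers_iff_mem_zpowers] at hmem
    obtain ⟨k, hk⟩ := hmem
    have hk' : x ^ k = g * α x * g⁻¹ := hk
    refine ⟨g, k, ?_, hk'.symm⟩
    intro hdvd
    have h1 : x ^ k = 1 := by rw [← hord] at hdvd; exact orderOf_dvd_iff_pow_eq_one.1 hdvd
    rw [h1] at hk'
    have h2 : α x = 1 := by
      calc α x = g⁻¹ * (g * α x * g⁻¹) * g := by group
        _ = 1 := by rw [← hk']; group
    exact hx1 ((MulEquiv.map_eq_one_iff α).1 h2)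
  -- conjugating by the element for `l ^ (s - 1)`
  have hstep : ∀ (α : MulAut G) (g : G) (k l : ℕ), g * α x * g⁻¹ = x ^ k → l ^ s % p = 1 →
      ∃ ν : G, (MulAut.conj ν * MulAut.conj g * α) x = x ^ (l ^ (s - 1) * k) := by
    intro α g k l hgk hl
    have hl' : (l ^ (s - 1)) ^ s % p = 1 := by
      have h1 : (l ^ (s - 1)) ^ s = (l ^ s) ^ (s - 1) := by
        rw [← pow_mul, ← pow_mul, mul_comm]
      rw [h1, Nat.pow_mod, hl, one_pow, Nat.mod_eq_of_lt hpp.one_lt]
    obtain ⟨ν, hν'⟩ := hν (l ^ (s - 1)) hl'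
    refine ⟨ν, ?_⟩
    simp only [MulAut.mul_apply, MulAut.conj_apply]
    rw [hgk, ← conj_pow, hν', ← pow_mul]
  have hall : ∀ α : MulAut G, ∃ h : G, α = MulAut.conj h := by
    intro α
    obtain ⟨g, k, hkp, hgk⟩ := hA α
    rcases pow_half_res p s k hpp hps hs hkp with hk | hk
    · obtain ⟨ν, hfix⟩ := hstep α g k k hgk hk
      have h1 : k ^ (s - 1) * k = k ^ s := by
        rw [← pow_succ]
        congr 1
        omega
      rw [h1, ← pow_mod_orderOf, hord, hk, pow_one] at hfix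
      obtain ⟨h, hh⟩ := hinn _ hfix
      refine ⟨(ν * g)⁻¹ * h, ?_⟩
      rw [map_mul, map_inv, ← hh, map_mul]
      group
    · exfalso
      obtain ⟨ν, hfix⟩ := hstep α g k ((p - 1) * k) hgk hk
      apply hnoinv (MulAut.conj ν * MulAut.conj g * α)
      rw [hfix]
      apply eq_inv_of_mul_eq_one_left
      rw [← pow_succ]
      have h1 : (((p - 1) * k) ^ (s - 1) * k + 1) % p = 0 := by
        have h2 : ((p - 1) * k) ^ (s - 1) * k + ((p - 1) * k) ^ s =
            p * (((p - 1) * k) ^ (s - 1) * k) := by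
          have h3 : ((p - 1) * k) ^ s = ((p - 1) * k) ^ (s - 1) * ((p - 1) * k) := by
            rw [← pow_succ]
            congr 1
            omega
          obtain ⟨p', rfl⟩ : ∃ p', p = p' + 1 := ⟨p - 1, by have := hpp.one_le; omega⟩
          rw [h3]
          simp only [Nat.add_sub_cancel]
          ring
        have h4 : (((p - 1) * k) ^ (s - 1) * k + ((p - 1) * k) ^ s) % p = 0 := by
          rw [h2]
          exact Nat.mul_mod_right _ _
        rw [Nat.add_mod] at h4 ⊢
        rw [hk] at h4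
        rw [Nat.mod_eq_of_lt hpp.one_lt]
        exact h4
      have h5 : orderOf x ∣ ((p - 1) * k) ^ (s - 1) * k + 1 := by
        rw [hord]
        exact Nat.dvd_of_mod_eq_zero h1
      exact orderOf_dvd_iff_pow_eq_one.1 h5
  have hone : ∀ q : Cfsg.Out G, q = 1 := by
    intro q
    induction q using QuotientGroup.induction_on with
    | H α =>
      obtain ⟨g, rfl⟩ := hall α
      exact (QuotientGroup.eq_one_iff _).2 ⟨g, rfl⟩
  have : Subsingleton (Cfsg.Out G) := ⟨fun a b => (hone a).trans (hone b).symm⟩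
  exact Nat.card_unique

example : ∀ (G : Type u) [Group G] [Finite G] (p : ℕ) (x : G) (m s : ℕ),
    p.Prime → Nat.card G = p * m → ¬ p ∣ m → p = 2 * s + 1 → s % 2 = 1 → x ^ p = 1 → x ≠ 1 →
    (∀ k : ℕ, k ^ s % p = 1 → ∃ ν : G, ν * x * ν⁻¹ = x ^ k) →
    (∀ α : MulAut G, α x = x → ∃ g : G, α = MulAut.conj g) →
    (∀ α : MulAut G, α x ≠ x⁻¹) →
    Nat.card (Cfsg.Out G) = 1 := out1P.{u}

end Cfsg.Agent.H91.FO
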