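import Mathlib
import Cfsg.Agent.H60.L34Syl

/-!
# helper91: uniqueness of the quasisimple group `2².L₃(4)` (S5387) -- shared definitions

Plan.  Let `L₁, L₂` be quasisimple with centre `E₄` and central quotient `G = PSL₃(4)`.  The
commutator subgroup `D` of the fibre product `L₁ ×_G L₂` is a perfect central extension of `G`
by an exponent-2 group `K`, and maps onto both `L₁` and `L₂`.  If `#K ≤ 4` both maps are
isomorphisms.  The bound `#K ≤ 4` is proved 2-locally: `K` lies in the commutator subgroup of the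
preimage `Ŝ` of a Sylow 2-subgroup `S = E₁E₂` (transfer), the preimages of the two elementary
abelian `2⁴`'s `E₁, E₂` are elementary abelian (their involutions are fused in `G`), hence
`Ŝ' = [Ê₁, Ê₂]` has order at most 16, and it maps onto `S'` of order 4.
-/

set_option autoImplicit false

namespace Cfsg.Agent.H91.L34

open Subgroup

/-- The 2-local configuration of `L₃(4)` used for the bound: two subgroups `E₁`, `E₂` of exponent 2,
each with all non-identity elements fused in `G` and with three "independent" elements,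
normalizing each other, each generated modulo `E₁ ⊓ E₂` by two elements, with `E₁ ⊔ E₂` of odd
index and with commutator subgroup of order at least 4. -/
def Cfg (G : Type*) [Group G] : Prop :=
  ∃ (E₁ E₂ : Subgroup G) (a₁ a₂ b₁ b₂ : G),
    (∀ x ∈ E₁, x * x = 1) ∧ (∀ x ∈ E₂, x * x = 1) ∧
    (∀ x ∈ E₁, ∀ y ∈ E₁, x ≠ 1 → y ≠ 1 → ∃ g : G, g * x * g⁻¹ = y) ∧
    (∀ x ∈ E₂, ∀ y ∈ E₂, x ≠ 1 → y ≠ 1 → ∃ g : G, g * x * g⁻¹ = y) ∧
    (∃ x ∈ E₁, ∃ y ∈ E₁, ∃ z ∈ E₁, x ≠ 1 ∧ y ≠ 1 ∧ z ≠ 1 ∧ x * y ≠ 1 ∧ x * z ≠ 1 ∧ y * z ≠ 1 ∧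
      x * y * z ≠ 1) ∧
    (∃ x ∈ E₂, ∃ y ∈ E₂, ∃ z ∈ E₂, x ≠ 1 ∧ y ≠ 1 ∧ z ≠ 1 ∧ x * y ≠ 1 ∧ x * z ≠ 1 ∧ y * z ≠ 1 ∧
      x * y * z ≠ 1) ∧
    (∀ x ∈ E₁, ∀ y ∈ E₂, x * y * x⁻¹ ∈ E₂) ∧ (∀ x ∈ E₂, ∀ y ∈ E₁, x * y * x⁻¹ ∈ E₁) ∧
    a₁ ∈ E₁ ∧ a₂ ∈ E₁ ∧ b₁ ∈ E₂ ∧ b₂ ∈ E₂ ∧
    E₁ ≤ closure {a₁, a₂} ⊔ (E₁ ⊓ E₂) ∧ E₂ ≤ closure {b₁, b₂} ⊔ (E₁ ⊓ E₂) ∧
    Odd (E₁ ⊔ E₂).index ∧
    4 ≤ Nat.card (commutator ↥(E₁ ⊔ E₂))

/-- Piece EA: a subgroup `E ≥ K` (`K` central of exponent 2) with `E/K` of exponent 2, all of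
whose elements outside `K` are fused modulo `K`, and with three independent elements modulo `K`,
has exponent 2. -/
def EaStmt.{u} : Prop :=
  ∀ {D : Type u} [Group D] (K E : Subgroup D),
    K ≤ center D → (∀ k ∈ K, k * k = 1) → K ≤ E → (∀ x ∈ E, x * x ∈ K) →
    (∀ x ∈ E, ∀ y ∈ E, x ∉ K → y ∉ K → ∃ n : D, n * x * n⁻¹ * y⁻¹ ∈ K) →
    (∃ x ∈ E, ∃ y ∈ E, ∃ z ∈ E, x ∉ K ∧ y ∉ K ∧ z ∉ K ∧ x * y ∉ K ∧ x * z ∉ K ∧ y * z ∉ K ∧
      x * y * z ∉ K) →
    ∀ w ∈ E, w * w = 1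

/-- Piece SB: a group that is the join of two normal subgroups of exponent 2, each generated by
two elements modulo the intersection, has commutator subgroup of order at most 16. -/
def SbStmt.{u} : Prop :=
  ∀ {P : Type u} [Group P] (A B : Subgroup P), A.Normal → B.Normal →
    (∀ a ∈ A, a * a = 1) → (∀ b ∈ B, b * b = 1) → A ⊔ B = ⊤ →
    ∀ a₁ a₂ b₁ b₂ : P, a₁ ∈ A → a₂ ∈ A → b₁ ∈ B → b₂ ∈ B →
    A ≤ closure {a₁, a₂} ⊔ (A ⊓ B) → B ≤ closure {b₁, b₂} ⊔ (A ⊓ B) →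
    Nat.card (commutator P) ≤ 16

/-- Piece TR (transfer): in a finite perfect group a central involution lying in a subgroup `P` of
odd index lies in the commutator subgroup of `P`. -/
def TrStmt.{u} : Prop :=
  ∀ {D : Type u} [Group D] [Finite D], commutator D = ⊤ → ∀ P : Subgroup D, Odd P.index →
    ∀ z : D, z ∈ center D → z * z = 1 → z ∈ P → z ∈ (commutator ↥P).map P.subtype

/-- Piece STAR: a perfect central extension of a group with the configuration `Cfg` by a group of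
exponent 2 has kernel of order at most 4. -/
def StarStmt.{u, v} : Prop :=
  ∀ {G : Type u} [Group G] [Finite G] {D : Type v} [Group D] [Finite D], Cfg G →
    ∀ ρ : D →* G, Function.Surjective ρ → ρ.ker ≤ center D → (∀ z ∈ ρ.ker, z * z = 1) →
    commutator D = ⊤ → Nat.card ρ.ker ≤ 4

/-- Piece FUS1: the non-identity elements `[1,0,r; 0,1,s; 0,0,1]` are fused in `PSL₃(F)`. -/
def Fus1Stmt.{u} : Prop :=
  ∀ {F : Type u} [Field F] (g g' : Cfsg.Agent.H60.Heis F), g.p = 0 → g'.p = 0 → g ≠ 1 → g' ≠ 1 →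
    ∃ c : Matrix.ProjectiveSpecialLinearGroup (Fin 3) F,
      c * Cfsg.Agent.H60.heisPSL g * c⁻¹ = Cfsg.Agent.H60.heisPSL g'

/-- Piece FUS2: the non-identity elements `[1,p,r; 0,1,0; 0,0,1]` are fused in `PSL₃(F)`. -/
def Fus2Stmt.{u} : Prop :=
  ∀ {F : Type u} [Field F] (g g' : Cfsg.Agent.H60.Heis F), g.s = 0 → g'.s = 0 → g ≠ 1 → g' ≠ 1 →
    ∃ c : Matrix.ProjectiveSpecialLinearGroup (Fin 3) F,
      c * Cfsg.Agent.H60.heisPSL g * c⁻¹ = Cfsg.Agent.H60.heisPSL g'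

/-- Piece IDX: the unitriangular group has odd index in `PSL₃(4)`. -/
def IdxStmt.{u} : Prop :=
  ∀ {F : Type u} [Field F] [Fintype F], Fintype.card F = 4 →
    Odd ((Cfsg.Agent.H60.heisPSL (F := F)).range.index)

/-- Piece CFG: `PSL₃(4)` has the configuration. -/
def CfgStmt.{u} : Prop :=
  ∀ {F : Type u} [Field F] [Fintype F], Fintype.card F = 4 →
    Cfg (Matrix.ProjectiveSpecialLinearGroup (Fin 3) F)

/-- Piece FP (fibre product): two perfect groups `L₁, L₂` with centres of order 4 and exponent 2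
and surjections onto `G` with kernels the centres are isomorphic, provided every finite perfect
central extension of `G` by a group of exponent 2 has kernel of order at most 4. -/
def FpStmt.{u₁, u₂, v} : Prop :=
  ∀ {L₁ : Type u₁} {L₂ : Type u₂} [Group L₁] [Finite L₁] [Group L₂] [Finite L₂]
    {G : Type v} [Group G] (π₁ : L₁ →* G) (π₂ : L₂ →* G),
    Function.Surjective π₁ → Function.Surjective π₂ →
    π₁.ker = center L₁ → π₂.ker = center L₂ → commutator L₁ = ⊤ → commutator L₂ = ⊤ →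
    Nat.card (center L₁) = 4 → Nat.card (center L₂) = 4 →
    (∀ x ∈ center L₁, x * x = 1) → (∀ x ∈ center L₂, x * x = 1) →
    (∀ {D : Type (max u₁ u₂)} [Group D] [Finite D] (ρ : D →* G), Function.Surjective ρ →
      ρ.ker ≤ center D → (∀ z ∈ ρ.ker, z * z = 1) → commutator D = ⊤ → Nat.card ρ.ker ≤ 4) →
    Nonempty (L₁ ≃* L₂)

end Cfsg.Agent.H91.L34
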