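import Cfsg.Agent.H44.SL2Sylow
import Cfsg.Agent.H7.RTDefs0

/-!
# RT-SL2TOR and RT-SL2I (helper91, for helper7's S2359)

In `SL₂(q)`, `q` odd, a non-trivial element of odd order dividing `q + 1` has cyclic centralizer
of order `q + 1`; if moreover `4 ∣ q + 1`, that centralizer contains an element of square `-1`.
-/

set_option autoImplicit false
open Cfsg Cfsg.Agent.H7.RT Matrix

namespace Cfsg.Agent.H91.RT

universe u

theorem sl2Tor : StSL2Tor.{u} := by
  intro F _ _ hodd t ht1 hto hdvd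
  -- trace² ≠ 4
  have htr : (t.1 0 0 + t.1 1 1) ^ 2 ≠ 4 := by
    intro h4
    obtain ⟨p, hp⟩ := CharP.exists F
    have hpp : Fact p.Prime := ⟨CharP.char_is_prime F p⟩
    obtain ⟨n, -, hqn⟩ := FiniteField.card F p
    have h5 : t ^ (2 * p) = 1 := Cfsg.Agent.H65.SL2.pow_two_mul_char_eq_one p t h4
    have h6 : orderOf t ∣ 2 * p := orderOf_dvd_of_pow_eq_one h5
    have hcop : Nat.Coprime (orderOf t) 2 := Nat.Coprime.symm (Nat.coprime_two_left.mpr hto)
    have h7 : orderOf t ∣ p := (Nat.Coprime.dvd_mul_left hcop).mp h6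
    have h8 : orderOf t ∣ Fintype.card F :=
      h7.trans (by rw [hqn]; exact dvd_pow_self p n.ne_zero)
    have h9 : orderOf t ∣ 1 := (Nat.dvd_add_right h8).mp hdvd
    exact ht1 (orderOf_eq_one_iff.mp (Nat.dvd_one.mp h9))
  have hell : Cfsg.Agent.H44.Elliptic (t : Matrix (Fin 2) (Fin 2) F) := by
    by_contra hne
    have hc := Cfsg.Agent.H44.sl2_card_centralizer_split hodd t htr hne
    have hmem : t ∈ Subgroup.centralizer ({t} : Set (SpecialLinearGroup (Fin 2) F)) :=
      Cfsg.Agent.H44.self_mem_centralizer_singleton t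
    have h1 : orderOf t ∣ Fintype.card F - 1 := by
      rw [← hc]
      exact Subgroup.orderOf_dvd_natCard _ hmem
    have hq : 2 ≤ Fintype.card F := Fintype.one_lt_card
    have h3 : orderOf t ∣ 2 := by
      have := Nat.dvd_sub hdvd h1
      have e : Fintype.card F + 1 - (Fintype.card F - 1) = 2 := by omega
      rwa [e] at this
    have h4 : orderOf t = 1 := by
      rcases (Nat.dvd_prime Nat.prime_two).mp h3 with h | h
      · exact h
      · rw [h] at hto; exact absurd hto (by decide)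
    exact ht1 (orderOf_eq_one_iff.mp h4)
  exact ⟨Cfsg.Agent.H44.sl2_isCyclic_centralizer hodd t htr,
    Cfsg.Agent.H44.sl2_card_centralizer_elliptic hodd t hell⟩

/-- The piece RT-SL2TOR, verbatim. -/
example : Cfsg.Agent.H7.RT.StSL2Tor.{u} := sl2Tor

theorem sl2I (hT : StSL2Tor.{u}) : StSL2I.{u} := by
  intro F _ _ hodd h4 t ht1 hto hdvd
  obtain ⟨hcyc, hcard⟩ := hT F hodd t ht1 hto hdvd
  have h2 : (2 : F) ≠ 0 := Cfsg.Agent.H44.two_ne_zero_of_odd hodd
  obtain ⟨g, hg⟩ := IsCyclic.exists_generator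
    (α := ↥(Subgroup.centralizer ({t} : Set (SpecialLinearGroup (Fin 2) F))))
  have hog : orderOf g = Fintype.card F + 1 := by
    rw [orderOf_eq_card_of_forall_mem_zpowers hg, hcard]
  obtain ⟨m, hm⟩ := h4
  have hm0 : m ≠ 0 := by rintro rfl; omega
  have hoi : orderOf (g ^ m) = 4 := by
    rw [orderOf_pow_of_dvd hm0 (by rw [hog, hm]; exact Dvd.intro_left 4 rfl), hog, hm]
    exact Nat.mul_div_cancel _ (Nat.pos_of_ne_zero hm0)
  obtain ⟨j, hj⟩ : ∃ j : SpecialLinearGroup (Fin 2) F, j = (g ^ m).1 := ⟨_, rfl⟩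
  have hoj : orderOf j = 4 := by
    rw [hj, Subgroup.orderOf_coe]; exact hoi
  refine ⟨j, by rw [hj]; exact (g ^ m).2, ?_⟩
  have hj4 : j ^ 4 = 1 := by rw [← hoj]; exact pow_orderOf_eq_one j
  have hx : (j * j) * (j * j) = 1 := by
    rw [← hj4]; simp only [pow_succ, pow_zero, one_mul, mul_assoc]
  rcases Cfsg.Agent.H65.SL2.eq_one_or_neg_one h2 (j * j) hx with h | h
  · exfalso
    have h5 : orderOf j ∣ 2 := orderOf_dvd_of_pow_eq_one (by rw [pow_two]; exact h)
    rw [hoj] at h5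
    omega
  · exact h

/-- The piece RT-SL2I, verbatim. -/
example (hT : Cfsg.Agent.H7.RT.StSL2Tor.{u}) : Cfsg.Agent.H7.RT.StSL2I.{u} := sl2I hT

end Cfsg.Agent.H91.RT
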