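import Mathlib
import Cfsg.Agent.H45.S8Defs0

/-!
# S8-GAMK (helper91, for helper45's S1158): the number of elements whose order is divisible by a
prime divisor of `k = (q+1)/4`
-/

set_option autoImplicit false
open scoped Pointwise

namespace Cfsg.Agent.H91.S8

open Cfsg.Agent.H45.S8

universe u

theorem qq_mod8 (m : ℕ) : qq m % 8 = 3 := by
  unfold qq
  induction m with
  | zero => norm_num
  | succ n ih =>
    have e : 3 ^ (2 * (n + 1) + 1) = 9 * 3 ^ (2 * n + 1) := by ring
    rw [e]; omega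

theorem four_kk (m : ℕ) : 4 * kk m = qq m + 1 := by
  have := qq_mod8 m
  unfold kk
  omega

theorem kk_odd (m : ℕ) : Odd (kk m) := by
  have h1 := qq_mod8 m
  have h2 := four_kk m
  rw [Nat.odd_iff]
  omega

theorem orderOf_conj' {G : Type*} [Group G] (c g : G) : orderOf (c * g * c⁻¹) = orderOf g := by
  have h := orderOf_injective (MulAut.conj c).toMonoidHom (MulAut.conj c).injective g
  simpa using h

/-- In a cyclic group, an element of order `s` lies in the cyclic group generated by any other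
element of order `s`. -/
theorem mem_zpowers_of_orderOf_eq {P : Type*} [Group P] [Finite P] [IsCyclic P] {s : ℕ}
    (hs : 0 < s) (w z : P) (hw : orderOf w = s) (hz : orderOf z = s) :
    z ∈ Subgroup.zpowers w := by
  classical
  have := Fintype.ofFinite P
  have hle := IsCyclic.card_pow_eq_one_le (α := P) hs
  have hsub : (Finset.univ.filter (fun a : P => a ∈ Subgroup.zpowers w)) ⊆
      (Finset.univ.filter (fun a : P => a ^ s = 1)) := by
    intro a ha
    rw [Finset.mem_filter] at ha ⊢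
    refine ⟨ha.1, ?_⟩
    obtain ⟨i, rfl⟩ := Subgroup.mem_zpowers_iff.mp ha.2
    rw [← zpow_natCast, ← zpow_mul, mul_comm, zpow_mul, zpow_natCast, ← hw, pow_orderOf_eq_one,
      one_zpow]
  have hcard : (Finset.univ.filter (fun a : P => a ∈ Subgroup.zpowers w)).card = s := by
    rw [← hw, ← Nat.card_zpowers, Nat.card_eq_fintype_card, Fintype.card_subtype]
  have heq := Finset.eq_of_subset_of_card_le hsub (by rw [hcard]; exact hle)
  have hzm : z ∈ Finset.univ.filter (fun a : P => a ^ s = 1) := by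
    rw [Finset.mem_filter]
    exact ⟨Finset.mem_univ _, by rw [← hz]; exact pow_orderOf_eq_one z⟩
  rw [← heq, Finset.mem_filter] at hzm
  exact hzm.2

theorem gamK : StGamK.{u} := by
  intro G _ _ m hm hG hQ hSyl hCLS A₁ hA₁c hA₁k hN
  obtain ⟨hcomm, hcard, hno4, hsub⟩ := hQ A₁ hA₁c hA₁k
  obtain ⟨C₁, hC₁⟩ : ∃ C₁ : Subgroup G, C₁ = Subgroup.centralizer (A₁ : Set G) := ⟨_, rfl⟩
  rw [← hC₁] at hcomm hcard hno4 hsub hN
  have h4k := four_kk m
  have hkodd := kk_odd m
  have hkpos : 0 < kk m := hkodd.pos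
  have hk : Nat.card C₁ = 4 * kk m := by rw [hcard, h4k]
  -- `A₁ ≤ C₁`
  have hA₁C : A₁ ≤ C₁ := by
    intro x hx
    rw [hC₁, Subgroup.mem_centralizer_iff]
    intro y hy
    have := (IsCyclic.isMulCommutative (α := ↥A₁)).is_comm.comm ⟨y, hy⟩ ⟨x, hx⟩
    exact congrArg Subtype.val this
  -- the index of `A₁` in `C₁` is 4
  have hindex : (A₁.subgroupOf C₁).index = 4 := by
    have h1 := Subgroup.card_mul_index (A₁.subgroupOf C₁)
    rw [Nat.card_congr (Subgroup.subgroupOfEquivOfLe hA₁C).toEquiv, hA₁k, hk] at h1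
    have h2 : kk m * (A₁.subgroupOf C₁).index = kk m * 4 := by rw [h1]; ring
    exact Nat.eq_of_mul_eq_mul_left hkpos h2
  have hnorm : (A₁.subgroupOf C₁).Normal := by
    constructor
    intro n hn g
    rw [Subgroup.mem_subgroupOf] at hn ⊢
    have h1 : ((g * n * g⁻¹ : ↥C₁) : G) = (n : G) := by
      have h2 : (g : G) * (n : G) = (n : G) * (g : G) := hcomm _ g.2 _ n.2
      simp only [Subgroup.coe_mul, Subgroup.coe_inv]
      rw [h2, mul_inv_cancel_right]
    rw [h1]; exact hn
  have hpow4 : ∀ x ∈ C₁, x ^ 4 ∈ A₁ := by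
    intro x hx
    have h1 := Subgroup.pow_index_mem (A₁.subgroupOf C₁) (⟨x, hx⟩ : ↥C₁)
    rw [hindex, Subgroup.mem_subgroupOf] at h1
    exact h1
  have hsq : ∀ x ∈ C₁, x ^ 4 = 1 → x ^ 2 = 1 := by
    intro x hx h4
    have hd : orderOf x ∣ 4 := orderOf_dvd_of_pow_eq_one h4
    have hne := hno4 x hx
    have hle : orderOf x ≤ 4 := Nat.le_of_dvd (by norm_num) hd
    have h12 : orderOf x ∣ 2 := by
      interval_cases h : orderOf x
      · simp at hd
      · exact one_dvd 2
      · exact dvd_rfl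
      · norm_num at hd
      · exact absurd rfl hne
    exact orderOf_dvd_iff_pow_eq_one.mp h12
  -- centralizers of the regular elements
  have hcent : ∀ x ∈ C₁, x ^ 2 ≠ 1 → Subgroup.centralizer ({x} : Set G) = C₁ := by
    intro x hx hx2
    have hx4 : x ^ 4 ≠ 1 := fun h => hx2 (hsq x hx h)
    have hA₀ : Subgroup.zpowers (x ^ 4) ≤ A₁ := by
      rw [Subgroup.zpowers_le]; exact hpow4 x hx
    have hA₀ne : Subgroup.zpowers (x ^ 4) ≠ ⊥ := by
      rw [Ne, Subgroup.zpowers_eq_bot]; exact hx4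
    have hC := hsub _ hA₀ hA₀ne
    apply le_antisymm
    · rw [← hC]
      intro g hg
      rw [Subgroup.mem_centralizer_iff] at hg ⊢
      intro y hy
      obtain ⟨i, rfl⟩ := Subgroup.mem_zpowers_iff.mp hy
      have hxg : Commute x g := hg x rfl
      exact ((hxg.pow_left 4).zpow_left i).eq
    · intro g hg
      rw [Subgroup.mem_centralizer_iff]
      intro y hy
      rw [Set.mem_singleton_iff.mp hy]
      exact hcomm x hx g hg
  -- the elements of `C₁` of square 1 form a subgroup of order 4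
  obtain ⟨E, hE⟩ : ∃ E : Subgroup G, ∀ x : G, x ∈ E ↔ x ∈ C₁ ∧ x ^ 2 = 1 := by
    refine ⟨{ carrier := {x | x ∈ C₁ ∧ x ^ 2 = 1}
              mul_mem' := ?_
              one_mem' := ⟨C₁.one_mem, one_pow 2⟩
              inv_mem' := ?_ }, fun x => Iff.rfl⟩
    · rintro a b ⟨ha, ha2⟩ ⟨hb, hb2⟩
      have hab : Commute a b := hcomm a ha b hb
      exact ⟨C₁.mul_mem ha hb, by rw [hab.mul_pow, ha2, hb2, one_mul]⟩
    · rintro a ⟨ha, ha2⟩
      exact ⟨C₁.inv_mem ha, by rw [inv_pow, ha2, inv_one]⟩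
  have hEC : E ≤ C₁ := fun x hx => ((hE x).mp hx).1
  have hE4 : Nat.card E = 4 := by
    have : Fact (Nat.Prime 2) := ⟨Nat.prime_two⟩
    have hp : IsPGroup 2 E := by
      intro g
      refine ⟨1, ?_⟩
      have := ((hE g).mp g.2).2
      apply Subtype.ext
      simpa using this
    obtain ⟨n, hn⟩ := hp.exists_card_eq
    have hdvd : Nat.card E ∣ 4 * kk m := by rw [← hk]; exact Subgroup.card_dvd_of_le hEC
    have hcop : Nat.Coprime (2 ^ n) (kk m) :=
      Nat.Coprime.pow_left n (Nat.coprime_two_left.mpr hkodd)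
    have hd4 : Nat.card E ∣ 4 := by
      rw [hn] at hdvd ⊢
      exact hcop.dvd_of_dvd_mul_right hdvd
    have hle : Nat.card E ≤ 4 := Nat.le_of_dvd (by norm_num) hd4
    have hge : 4 ≤ Nat.card E := by
      obtain ⟨K, hK⟩ := Sylow.exists_subgroup_card_pow_prime (G := ↥C₁) 2 (n := 2)
        (by rw [hk]; exact Dvd.intro _ rfl)
      have hKE : K.map C₁.subtype ≤ E := by
        rintro _ ⟨y, hy, rfl⟩
        rw [hE]
        refine ⟨y.2, hsq _ y.2 ?_⟩
        have h1 : (⟨y, hy⟩ : ↥K) ^ 4 = 1 := by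
          have := pow_card_eq_one' (G := ↥K) (x := ⟨y, hy⟩)
          rwa [hK] at this
        have h2 := congrArg (fun z : ↥K => ((z : ↥C₁) : G)) h1
        simpa using h2
      have h3 := Subgroup.card_le_of_le hKE
      rw [Subgroup.card_map_of_injective C₁.subtype_injective, hK] at h3
      exact h3
    omega
  have hreg : Nat.card {x : G // x ∈ C₁ ∧ x ^ 2 ≠ 1} = 4 * kk m - 4 := by
    have h1 : Nat.card {x : G // x ∈ C₁ ∧ x ^ 2 ≠ 1} = ((C₁ : Set G) \ (E : Set G)).ncard := by
      rw [← Nat.card_coe_set_eq]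
      apply Nat.card_congr
      refine Equiv.subtypeEquivRight (fun x => ?_)
      rw [Set.mem_sdiff, SetLike.mem_coe, SetLike.mem_coe, hE]
      constructor
      · rintro ⟨h1, h2⟩; exact ⟨h1, fun h => h2 h.2⟩
      · rintro ⟨h1, h2⟩; exact ⟨h1, fun h => h2 ⟨h1, h⟩⟩
    rw [h1, Set.ncard_sdiff (fun x hx => hEC hx) (Set.toFinite _), ← Nat.card_coe_set_eq,
      ← Nat.card_coe_set_eq]
    have e1 : Nat.card ↥(C₁ : Set G) = 4 * kk m := hk
    have e2 : Nat.card ↥(E : Set G) = 4 := hE4
    rw [e1, e2]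
  -- `GamSet = ConjSet C₁ 2`
  have hset : GamSet G (kk m) = ConjSet C₁ 2 := by
    ext g
    constructor
    · rintro ⟨s, hs, hsk, hsg⟩
      have : Fact s.Prime := ⟨hs⟩
      have hs2 : s ≠ 2 := by
        rintro rfl
        exact (Nat.not_even_iff_odd.mpr hkodd) (even_iff_two_dvd.mpr hsk)
      have hg0 : 0 < orderOf g := Nat.pos_of_ne_zero (fun h => by
        rw [h] at hsg
        exact (orderOf_pos g).ne' h)
      refine ⟨?_, ?_⟩
      · intro h2
        have h3 : orderOf g ∣ 2 := orderOf_dvd_of_pow_eq_one h2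
        have h4 : s ∣ 2 := hsg.trans h3
        exact hs2 ((Nat.prime_dvd_prime_iff_eq hs Nat.prime_two).mp h4)
      · -- an element `z` of order `s`, a power of `g`
        obtain ⟨t, ht⟩ := hsg
        obtain ⟨z, hz⟩ : ∃ z : G, z = g ^ t := ⟨_, rfl⟩
        have hzo : orderOf z = s := by
          rw [hz, orderOf_pow_of_dvd (fun h => by rw [h, mul_zero] at ht; omega)
            (Dvd.intro_left s ht.symm), ht]
          exact Nat.mul_div_cancel _ (Nat.pos_of_ne_zero (fun h => by
            rw [h, mul_zero] at ht; omega))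
        -- an element `w ∈ A₁` of order `s`
        obtain ⟨w', hw'⟩ := exists_prime_orderOf_dvd_card' (G := ↥A₁) s (by rw [hA₁k]; exact hsk)
        obtain ⟨w, hw⟩ : ∃ w : G, w = (w' : G) := ⟨_, rfl⟩
        have hwA : w ∈ A₁ := by rw [hw]; exact w'.2
        have hwo : orderOf w = s := by rw [hw, Subgroup.orderOf_coe]; exact hw'
        -- Sylow subgroups
        have hpz : IsPGroup s (Subgroup.zpowers z) :=
          IsPGroup.of_card (n := 1) (by rw [Nat.card_zpowers, hzo, pow_one])
        have hpw : IsPGroup s (Subgroup.zpowers w) :=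
          IsPGroup.of_card (n := 1) (by rw [Nat.card_zpowers, hwo, pow_one])
        obtain ⟨Qz, hQz⟩ := hpz.exists_le_sylow
        obtain ⟨Qw, hQw⟩ := hpw.exists_le_sylow
        obtain ⟨c, hc⟩ := MulAction.exists_smul_eq G Qz Qw
        have hczQ : c * z * c⁻¹ ∈ (Qw : Subgroup G) := by
          have h1 : (Qw : Subgroup G) = MulAut.conj c • (Qz : Subgroup G) := by
            rw [← hc, Sylow.coe_subgroup_smul]
          rw [h1]
          exact Subgroup.smul_mem_pointwise_smul _ _ _ (hQz (Subgroup.mem_zpowers z))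
        have hwQ : w ∈ (Qw : Subgroup G) := hQw (Subgroup.mem_zpowers w)
        have : IsCyclic ↥(Qw : Subgroup G) := hSyl s hsk Qw
        have hmem := mem_zpowers_of_orderOf_eq (P := ↥(Qw : Subgroup G)) hs.pos ⟨w, hwQ⟩
          ⟨c * z * c⁻¹, hczQ⟩ (by rw [← Subgroup.orderOf_coe]; exact hwo)
          (by rw [← Subgroup.orderOf_coe]; simp only []; rw [orderOf_conj']; exact hzo)
        obtain ⟨i, hi⟩ := Subgroup.mem_zpowers_iff.mp hmem
        have hi' : w ^ i = c * z * c⁻¹ := by
          have := congrArg Subtype.val hi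
          simpa using this
        -- `zpowers (c z c⁻¹) ≤ A₁`, nontrivial
        have hczA : c * z * c⁻¹ ∈ A₁ := by rw [← hi']; exact A₁.zpow_mem hwA i
        have hcz1 : c * z * c⁻¹ ≠ 1 := by
          intro h
          have : orderOf (c * z * c⁻¹) = 1 := by rw [h, orderOf_one]
          rw [orderOf_conj', hzo] at this
          exact hs.one_lt.ne' this
        have hC := hsub (Subgroup.zpowers (c * z * c⁻¹)) (by rw [Subgroup.zpowers_le]; exact hczA)
          (by rw [Ne, Subgroup.zpowers_eq_bot]; exact hcz1)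
        refine ⟨c, ?_⟩
        rw [← hC, Subgroup.mem_centralizer_iff]
        intro y hy
        obtain ⟨j, rfl⟩ := Subgroup.mem_zpowers_iff.mp hy
        have hgz : Commute z g := by rw [hz]; exact (Commute.refl g).pow_left t
        have h1 : Commute (c * z * c⁻¹) (c * g * c⁻¹) := by
          unfold Commute SemiconjBy
          have := hgz.eq
          calc c * z * c⁻¹ * (c * g * c⁻¹) = c * (z * g) * c⁻¹ := by group
            _ = c * (g * z) * c⁻¹ := by rw [this]
            _ = c * g * c⁻¹ * (c * z * c⁻¹) := by group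
        exact (h1.zpow_left j).eq
    · rintro ⟨hg2, c, hc⟩
      -- `x = c g c⁻¹ ∈ C₁`, `x² ≠ 1`
      have hx2 : (c * g * c⁻¹) ^ 2 ≠ 1 := by
        rw [conj_pow]
        intro h
        apply hg2
        have : g ^ 2 = c⁻¹ * (c * g ^ 2 * c⁻¹) * c := by group
        rw [this, h]; group
      have hord : orderOf (c * g * c⁻¹) ∣ 4 * kk m := by
        rw [← hk]; exact Subgroup.orderOf_dvd_natCard _ hc
      rw [orderOf_conj'] at hord
      by_contra hno
      have hcop : Nat.Coprime (orderOf g) (kk m) := by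
        apply Nat.Coprime.symm
        rw [Nat.coprime_iff_gcd_eq_one]  
        by_contra h1
        obtain ⟨s, hs, hsd⟩ := Nat.exists_prime_and_dvd h1
        exact hno ⟨s, hs, hsd.trans (Nat.gcd_dvd_left _ _), hsd.trans (Nat.gcd_dvd_right _ _)⟩
      have h4 : orderOf g ∣ 4 := hcop.dvd_of_dvd_mul_right hord
      have h5 : (c * g * c⁻¹) ^ 4 = 1 := by
        rw [conj_pow, orderOf_dvd_iff_pow_eq_one.mp h4]; group
      exact hx2 (hsq _ hc h5)
  -- conclusion
  have hcls := hCLS G C₁ 2 hcent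
  rw [hN, hreg, hG, ← hset] at hcls
  have e : 4 * kk m - 4 = qq m - 3 := by omega
  rw [e] at hcls
  rw [← hcls]; ring

/-- The piece S8-GAMK, verbatim. -/
example : Cfsg.Agent.H45.S8.StGamK.{u} := gamK

end Cfsg.Agent.H91.S8
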