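import Cfsg.Agent.H91.BTSumP

/-!
# S0997-B-STAR (helper91, for helper1): the key identity `(θ₁ - θ₂) θ₁ = θ₁ + Σ_X δ χ`
-/

set_option autoImplicit false

namespace Cfsg.Agent.H91.BT

open Cfsg Cfsg.Agent.H21.BR Cfsg.Agent.H1.BT
open scoped ComplexConjugate

universe u

theorem star (hI : StInner.{u}) : StStar.{u} := by
  intro G _ _ p e b P X Y δ τ x θ₁ θ₂ hT hV hS
  classical
  have := Fintype.ofFinite G
  obtain ⟨h1Y, h2Y, hagree, hd1, hd2, hpc, hF5, hF6⟩ := t2_basic hT hV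
  have hpp : p.Prime := hT.ctx.hp
  have hP : Nat.card (P : Subgroup G) = p := hT.ctx.hP
  obtain ⟨E, hE1, hEc, hEs⟩ := finsum_split_one (P : Subgroup G)
  rw [hP] at hEc
  have hEcc : (E.card : ℂ) = 2 * (e : ℂ) := by
    have h1 : E.card = 2 * e := by have := hT.ht; omega
    rw [h1]; push_cast; ring
  have hreg1 : ¬ p ∣ orderOf (1 : G) := by
    rw [orderOf_one]; exact hpp.one_lt.ne' ∘ Nat.dvd_one.mp
  obtain ⟨-, hS2, hS3⟩ := hS
  have hs1 : ∑ y ∈ E, (θ₁ : G → ℂ) y = (e : ℂ) := by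
    rw [hEs (θ₁ : G → ℂ), hd1] at hS2; linear_combination hS2
  have hs2 : ∑ y ∈ E, (θ₂ : G → ℂ) y = (e : ℂ) := by
    rw [hEs (θ₂ : G → ℂ), hd2] at hS3; linear_combination hS3
  have hpe : ((p : ℂ) * (e : ℂ)) ≠ 0 := by
    have h1 : p ≠ 0 := hpp.ne_zero
    have h2 : e ≠ 0 := by have := hT.he4; omega
    exact mul_ne_zero (Nat.cast_ne_zero.mpr h1) (Nat.cast_ne_zero.mpr h2)
  have h1X : θ₁ ∉ X := fun h => (Finset.disjoint_left.mp hT.ctx.hB0.disj h) h1Y
  have h2X : θ₂ ∉ X := fun h => (Finset.disjoint_left.mp hT.ctx.hB0.disj h) h2Y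
  -- the left-hand side
  obtain ⟨L, hL⟩ : ∃ L : G → ℂ,
      L = fun g => ((θ₁ : G → ℂ) g - (θ₂ : G → ℂ) g) * (θ₁ : G → ℂ) g := ⟨_, rfl⟩
  have hLc : IsClassFunction G L := by
    rw [hL]
    exact Cfsg.Agent.H4.isClassFunction_mul
      (Cfsg.Agent.H4.isClassFunction_sub (Cfsg.Agent.H4.irr_isClassFunction θ₁)
        (Cfsg.Agent.H4.irr_isClassFunction θ₂)) (Cfsg.Agent.H4.irr_isClassFunction θ₁)
  have hLv : ∀ g : G, ¬ p ∣ orderOf g → L g = 0 := by
    intro g hg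
    rw [hL]; simp only []
    rw [hagree g hg, sub_self, zero_mul]
  have hL1 : L 1 = 0 := hLv 1 hreg1
  have hLE : ∀ y ∈ E, L (y : G) = (θ₁ : G → ℂ) y + (e : ℂ) := fun y hy => by
    rw [hL]; exact hF5 y y.2 (hE1 y hy)
  have hLi : ∀ ψ : IrrCharacter G, classInner L (ψ : G → ℂ) =
      ((p : ℂ) * (e : ℂ))⁻¹ * ∑ y ∈ E, ((θ₁ : G → ℂ) y + (e : ℂ)) * conj ((ψ : G → ℂ) y) := by
    intro ψ
    rw [hI p e hpp P hP hT.ctx.hC hT.ctx.hN L (ψ : G → ℂ) hLc
      (Cfsg.Agent.H4.irr_isClassFunction ψ) hLv,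
      hEs (fun g => L g * conj ((ψ : G → ℂ) g))]
    rw [hL1, zero_mul, zero_add]
    congr 1
    exact Finset.sum_congr rfl fun y hy => by rw [hLE y hy]
  -- the right-hand side
  obtain ⟨Rr, hRr⟩ : ∃ Rr : G → ℂ,
      Rr = (θ₁ : G → ℂ) + ∑ χ ∈ X, (δ χ : ℂ) • (χ : G → ℂ) := ⟨_, rfl⟩
  have hRc : IsClassFunction G Rr := by
    rw [hRr]
    exact Cfsg.Agent.H4.isClassFunction_add (Cfsg.Agent.H4.irr_isClassFunction θ₁)
      (Cfsg.Agent.H4.isClassFunction_sum _ _ fun χ _ =>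
        Cfsg.Agent.H4.isClassFunction_smul _ (Cfsg.Agent.H4.irr_isClassFunction χ))
  have hRi : ∀ ψ : IrrCharacter G, classInner Rr (ψ : G → ℂ) =
      (if θ₁ = ψ then 1 else 0) + (if ψ ∈ X then (δ ψ : ℂ) else 0) := by
    intro ψ
    rw [hRr, Cfsg.Agent.H4.classInner_add_left, Cfsg.Agent.H4.classInner_sum_left,
      Cfsg.Agent.H4.irr_inner]
    congr 1
    simp only [Cfsg.Agent.H4.classInner_smul_left, Cfsg.Agent.H4.irr_inner, mul_ite, mul_one,
      mul_zero]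
    rw [Finset.sum_ite_eq']
  have hD : L - Rr = 0 := by
    apply Cfsg.Agent.H4.eq_zero_of_inner_irr_eq_zero
      (Cfsg.Agent.H4.isClassFunction_sub hLc hRc)
    intro ψ
    rw [Cfsg.Agent.H4.classInner_sub_left, hLi, hRi]
    by_cases hψX : ψ ∈ X
    · have hne : θ₁ ≠ ψ := fun h => h1X (h ▸ hψX)
      rw [if_neg hne, if_pos hψX, zero_add]
      have h2 : ∑ y ∈ E, ((θ₁ : G → ℂ) y + (e : ℂ)) * conj ((ψ : G → ℂ) y)
          = (δ ψ : ℂ) * ((p : ℂ) * (e : ℂ)) := by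
        have h3 : ∀ y ∈ E, ((θ₁ : G → ℂ) y + (e : ℂ)) * conj ((ψ : G → ℂ) y)
            = (δ ψ : ℂ) * ((θ₁ : G → ℂ) y + (e : ℂ)) := by
          intro y hy
          rw [hT.ctx.hB0.val_X ψ hψX y y.2 (hE1 y hy), map_intCast, mul_comm]
        rw [Finset.sum_congr rfl h3, ← Finset.mul_sum, Finset.sum_add_distrib, Finset.sum_const,
          nsmul_eq_mul, hEcc, hs1, hpc]
        ring
      rw [h2, mul_comm (δ ψ : ℂ), ← mul_assoc, inv_mul_cancel₀ hpe, one_mul, sub_self]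
    · by_cases hψ1 : ψ = θ₁
      · rw [hψ1, if_pos rfl, if_neg h1X, add_zero]
        have h2 : ∑ y ∈ E, ((θ₁ : G → ℂ) y + (e : ℂ)) * conj ((θ₁ : G → ℂ) y)
            = (p : ℂ) * (e : ℂ) := by
          have h3 : ∀ y ∈ E, ((θ₁ : G → ℂ) y + (e : ℂ)) * conj ((θ₁ : G → ℂ) y)
              = (1 + (e : ℂ)) * (θ₁ : G → ℂ) y + (e : ℂ) / 2 := by
            intro y hy
            rw [(hV y y.2 (hE1 y hy)).2.2.1]
            linear_combination hF6 y y.2 (hE1 y hy)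
          rw [Finset.sum_congr rfl h3, Finset.sum_add_distrib, ← Finset.mul_sum,
            Finset.sum_const, nsmul_eq_mul, hEcc, hs1, hpc]
          ring
        rw [h2, inv_mul_cancel₀ hpe, sub_self]
      · by_cases hψ2 : ψ = θ₂
        · rw [hψ2, if_neg hT.hne, if_neg h2X, add_zero]
          have h2 : ∑ y ∈ E, ((θ₁ : G → ℂ) y + (e : ℂ)) * conj ((θ₂ : G → ℂ) y) = 0 := by
            have h3 : ∀ y ∈ E, ((θ₁ : G → ℂ) y + (e : ℂ)) * conj ((θ₂ : G → ℂ) y)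
                = (e : ℂ) * (θ₂ : G → ℂ) y - (e : ℂ) / 2 := by
              intro y hy
              rw [(hV y y.2 (hE1 y hy)).2.2.2]
              linear_combination (hV y y.2 (hE1 y hy)).2.1
            rw [Finset.sum_congr rfl h3, Finset.sum_sub_distrib, ← Finset.mul_sum,
              Finset.sum_const, nsmul_eq_mul, hEcc, hs2]
            ring
          rw [h2, mul_zero, sub_zero]
        · have hψY : ψ ∉ Y := fun h => by
            rcases (hT.hY ψ).mp h with h | h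
            · exact hψ1 h
            · exact hψ2 h
          rw [if_neg (Ne.symm hψ1), if_neg hψX, add_zero]
          have h2 : ∑ y ∈ E, ((θ₁ : G → ℂ) y + (e : ℂ)) * conj ((ψ : G → ℂ) y) = 0 := by
            apply Finset.sum_eq_zero
            intro y hy
            rw [hT.ctx.hB0.out_van ψ hψX hψY y y.2 (hE1 y hy), map_zero, mul_zero]
          rw [h2, mul_zero, sub_zero]
  intro g
  have h := congrFun hD g
  rw [Pi.sub_apply, hL, hRr] at h
  simp only [Pi.add_apply, Finset.sum_apply, Pi.smul_apply, smul_eq_mul, Pi.zero_apply] at h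
  linear_combination h

/-- The piece S0997-B-STAR, verbatim. -/
example : Cfsg.Agent.H1.BT.StInner.{u} → Cfsg.Agent.H1.BT.StStar.{u} := star

end Cfsg.Agent.H91.BT
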