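import Mathlib
import Cfsg.Agent.H1.BTDefs
import Cfsg.Agent.H4.Irr
import Cfsg.Agent.H82.Irr

/-!
# S0997-B-SUMP (helper91, for helper1): the sums of `θ₁, θ₂` over `P`
-/

set_option autoImplicit false

namespace Cfsg.Agent.H91.BT

open Cfsg Cfsg.Agent.H21.BR Cfsg.Agent.H1.BT
open scoped ComplexConjugate

universe u

theorem eq_of_inv_mul {a c S : ℂ} (ha : a ≠ 0) (h : c = a⁻¹ * S) : S = a * c := by
  rw [h, ← mul_assoc, mul_inv_cancel₀ ha, one_mul]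

/-- Splitting off the term at `1` in a sum over a finite subgroup. -/
theorem finsum_split_one {G : Type u} [Group G] (P : Subgroup G) [Finite ↥P] :
    ∃ E : Finset ↥P, (∀ y ∈ E, (y : G) ≠ 1) ∧ E.card = Nat.card ↥P - 1 ∧
      ∀ F : G → ℂ, ∑ᶠ y : ↥P, F y = F 1 + ∑ y ∈ E, F y := by
  classical
  have := Fintype.ofFinite ↥P
  refine ⟨Finset.univ.erase 1, ?_, ?_, ?_⟩
  · intro y hy h
    exact (Finset.ne_of_mem_erase hy) (Subtype.ext h)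
  · rw [Finset.card_erase_of_mem (Finset.mem_univ _), Finset.card_univ, Nat.card_eq_fintype_card]
  · intro F
    rw [finsum_eq_sum_of_fintype, ← Finset.add_sum_erase _ _ (Finset.mem_univ (1 : ↥P))]
    rfl

/-- Basic consequences of `T2` and `ValP`. -/
theorem t2_basic {G : Type u} [Group G] [Finite G] {p e b : ℕ} {P : Sylow p G}
    {X Y : Finset (IrrCharacter G)} {δ : IrrCharacter G → ℤ} {τ x : G} {θ₁ θ₂ : IrrCharacter G}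
    (hT : T2 p e b P X Y δ τ x θ₁ θ₂) (hV : ValP e P θ₁ θ₂) :
    θ₁ ∈ Y ∧ θ₂ ∈ Y ∧ (∀ g : G, ¬ p ∣ orderOf g → (θ₁ : G → ℂ) g = (θ₂ : G → ℂ) g) ∧
    (θ₁ : G → ℂ) 1 = (p : ℂ) - (e : ℂ) ∧ (θ₂ : G → ℂ) 1 = (p : ℂ) - (e : ℂ) ∧
    (p : ℂ) = 2 * (e : ℂ) + 1 ∧
    (∀ y ∈ (P : Subgroup G), y ≠ 1 →
      ((θ₁ : G → ℂ) y - (θ₂ : G → ℂ) y) * (θ₁ : G → ℂ) y = (θ₁ : G → ℂ) y + (e : ℂ)) ∧
    (∀ y ∈ (P : Subgroup G), y ≠ 1 →
      (θ₁ : G → ℂ) y * (θ₁ : G → ℂ) y = (θ₁ : G → ℂ) y + (e : ℂ) / 2) := by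
  have h1 : θ₁ ∈ Y := (hT.hY θ₁).mpr (Or.inl rfl)
  have h2 : θ₂ ∈ Y := (hT.hY θ₂).mpr (Or.inr rfl)
  have hep : e ≤ p := by have := hT.ht; omega
  have hpc : (p : ℂ) = 2 * (e : ℂ) + 1 := by
    have := hT.ht
    rw [← this]; push_cast; ring
  have hd : ∀ θ ∈ Y, (θ : G → ℂ) 1 = (p : ℂ) - (e : ℂ) := by
    intro θ hθ
    rw [Cfsg.Agent.H82.irr_one_eq_charDegree θ, hT.ctx.degY θ hθ, Nat.cast_sub hep]
  refine ⟨h1, h2, fun g hg => hT.ctx.hB0.agree_Y θ₁ h1 θ₂ h2 g hg, hd θ₁ h1, hd θ₂ h2, hpc,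
    ?_, ?_⟩
  · intro y hy hy1
    obtain ⟨hs, hm, -, -⟩ := hV y hy hy1
    linear_combination ((θ₁ : G → ℂ) y) * hs - 2 * hm
  · intro y hy hy1
    obtain ⟨hs, hm, -, -⟩ := hV y hy hy1
    linear_combination ((θ₁ : G → ℂ) y) * hs - hm

theorem sumP (hI : StInner.{u}) : StSumP.{u} := by
  intro G _ _ p e b P X Y δ τ x θ₁ θ₂ hT hV
  classical
  have := Fintype.ofFinite G
  obtain ⟨h1Y, h2Y, hagree, hd1, hd2, hpc, hF5, -⟩ := t2_basic hT hV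
  have hpp : p.Prime := hT.ctx.hp
  have hP : Nat.card (P : Subgroup G) = p := hT.ctx.hP
  obtain ⟨E, hE1, hEc, hEs⟩ := finsum_split_one (P : Subgroup G)
  rw [hP] at hEc
  have hEcc : (E.card : ℂ) = 2 * (e : ℂ) := by
    have h1 : E.card = 2 * e := by have := hT.ht; omega
    rw [h1]; push_cast; ring
  have hreg1 : ¬ p ∣ orderOf (1 : G) := by
    rw [orderOf_one]; exact hpp.one_lt.ne' ∘ Nat.dvd_one.mp
  have hf1 : (θ₁ : G → ℂ) 1 - (θ₂ : G → ℂ) 1 = 0 := by rw [hd1, hd2, sub_self]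
  -- the function `f = θ₁ - θ₂`
  have hfc : IsClassFunction G (fun g => (θ₁ : G → ℂ) g - (θ₂ : G → ℂ) g) :=
    Cfsg.Agent.H4.isClassFunction_sub (Cfsg.Agent.H4.irr_isClassFunction θ₁)
      (Cfsg.Agent.H4.irr_isClassFunction θ₂)
  have hfv : ∀ g : G, ¬ p ∣ orderOf g → (fun g => (θ₁ : G → ℂ) g - (θ₂ : G → ℂ) g) g = 0 :=
    fun g hg => by simp only []; rw [hagree g hg, sub_self]
  have hpe : ((p : ℂ) * (e : ℂ)) ≠ 0 := by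
    have h1 : p ≠ 0 := hpp.ne_zero
    have h2 : e ≠ 0 := by have := hT.he4; omega
    exact mul_ne_zero (Nat.cast_ne_zero.mpr h1) (Nat.cast_ne_zero.mpr h2)
  have hne12 : θ₂ ≠ θ₁ := fun h => hT.hne h.symm
  have hone : ∀ θ ∈ Y, θ ≠ one G := by
    intro θ hθ h
    exact (Finset.disjoint_left.mp hT.ctx.hB0.disj hT.ctx.hB0.one_mem) (h ▸ hθ)
  -- inner product with `θ₁`
  have hi1 := hI p e hpp P hP hT.ctx.hC hT.ctx.hN _ (θ₁ : G → ℂ) hfc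
    (Cfsg.Agent.H4.irr_isClassFunction θ₁) hfv
  have hc1 : classInner (fun g => (θ₁ : G → ℂ) g - (θ₂ : G → ℂ) g) (θ₁ : G → ℂ) = 1 := by
    have : (fun g => (θ₁ : G → ℂ) g - (θ₂ : G → ℂ) g) = (θ₁ : G → ℂ) - (θ₂ : G → ℂ) := rfl
    rw [this, Cfsg.Agent.H4.classInner_sub_left, Cfsg.Agent.H4.irr_inner_self,
      Cfsg.Agent.H4.irr_inner_ne hne12, sub_zero]
  rw [hc1, hEs (fun g => ((θ₁ : G → ℂ) g - (θ₂ : G → ℂ) g) * conj ((θ₁ : G → ℂ) g))] at hi1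
  rw [hf1, zero_mul, zero_add] at hi1
  have hs1 : ∑ y ∈ E, (θ₁ : G → ℂ) y = (e : ℂ) := by
    have h2 : ∑ y ∈ E, ((θ₁ : G → ℂ) y - (θ₂ : G → ℂ) y) * conj ((θ₁ : G → ℂ) y)
        = ∑ y ∈ E, ((θ₁ : G → ℂ) y + (e : ℂ)) := by
      refine Finset.sum_congr rfl fun y hy => ?_
      rw [(hV y y.2 (hE1 y hy)).2.2.1, hF5 y y.2 (hE1 y hy)]
    rw [h2, Finset.sum_add_distrib, Finset.sum_const, nsmul_eq_mul, hEcc] at hi1
    have h3 := eq_of_inv_mul hpe hi1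
    rw [hpc] at h3
    linear_combination h3
  -- inner product with the trivial character
  have hi0 := hI p e hpp P hP hT.ctx.hC hT.ctx.hN _ ((one G : IrrCharacter G) : G → ℂ) hfc
    (Cfsg.Agent.H4.irr_isClassFunction (one G)) hfv
  have hc0 : classInner (fun g => (θ₁ : G → ℂ) g - (θ₂ : G → ℂ) g)
      ((one G : IrrCharacter G) : G → ℂ) = 0 := by
    have : (fun g => (θ₁ : G → ℂ) g - (θ₂ : G → ℂ) g) = (θ₁ : G → ℂ) - (θ₂ : G → ℂ) := rfl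
    rw [this, Cfsg.Agent.H4.classInner_sub_left, Cfsg.Agent.H4.irr_inner_ne (hone θ₁ h1Y),
      Cfsg.Agent.H4.irr_inner_ne (hone θ₂ h2Y), sub_zero]
  rw [hc0, hEs (fun g => ((θ₁ : G → ℂ) g - (θ₂ : G → ℂ) g) *
    conj (((one G : IrrCharacter G) : G → ℂ) g))] at hi0
  rw [hf1, zero_mul, zero_add] at hi0
  have hs2 : ∑ y ∈ E, (θ₂ : G → ℂ) y = (e : ℂ) := by
    have h2 : ∑ y ∈ E, ((θ₁ : G → ℂ) y - (θ₂ : G → ℂ) y) *
        conj (((one G : IrrCharacter G) : G → ℂ) y)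
        = ∑ y ∈ E, (θ₁ : G → ℂ) y - ∑ y ∈ E, (θ₂ : G → ℂ) y := by
      rw [← Finset.sum_sub_distrib]
      refine Finset.sum_congr rfl fun y hy => ?_
      rw [Cfsg.Agent.H21.E2Block.triv_apply, map_one, mul_one]
    rw [h2, hs1] at hi0
    have h3 := eq_of_inv_mul hpe hi0
    linear_combination -h3
  refine ⟨?_, ?_, ?_⟩
  · rw [hEs (fun g => ((θ₁ : G → ℂ) g - (θ₂ : G → ℂ) g) * (θ₁ : G → ℂ) g)]
    rw [hf1, zero_mul, zero_add]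
    have h2 : ∑ y ∈ E, ((θ₁ : G → ℂ) y - (θ₂ : G → ℂ) y) * (θ₁ : G → ℂ) y
        = ∑ y ∈ E, ((θ₁ : G → ℂ) y + (e : ℂ)) :=
      Finset.sum_congr rfl fun y hy => hF5 y y.2 (hE1 y hy)
    rw [h2, Finset.sum_add_distrib, Finset.sum_const, nsmul_eq_mul, hEcc, hs1, hpc]
    ring
  · rw [hEs (θ₁ : G → ℂ), hd1, hs1]; ring
  · rw [hEs (θ₂ : G → ℂ), hd2, hs2]; ring

/-- The piece S0997-B-SUMP, verbatim. -/
example : Cfsg.Agent.H1.BT.StInner.{u} → Cfsg.Agent.H1.BT.StSumP.{u} := sumP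

end Cfsg.Agent.H91.BT
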