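import Mathlib
import Cfsg.Agent.H79.BrDefs
import Cfsg.Agent.H82.Irr
import Cfsg.Agent.H4.Irr
import Cfsg.Agent.H4.RealClasses

/-!
# S4504-EXH3 (helper91, for helper79): the principal block is exhausted by the two products

`prod3 : StProd3a → StProd3b → StOrth → StPair → StProd3`.
-/

set_option autoImplicit false

namespace Cfsg.Agent.H91.Br

open Cfsg Cfsg.Agent.H79.Br
open scoped ComplexConjugate

universe u

theorem finsum_mem_eq_sum_ite {ι : Type*} [Fintype ι] (S : Set ι) [DecidablePred (· ∈ S)]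
    (F : ι → ℂ) : ∑ᶠ i ∈ S, F i = ∑ i, if i ∈ S then F i else 0 := by
  rw [finsum_mem_def, finsum_eq_sum_of_fintype]
  refine Finset.sum_congr rfl fun i _ => ?_
  rw [Set.indicator_apply]

/-- Splitting a sum according to the value pattern of `u`. -/
theorem sum_split {ι : Type*} [Fintype ι] [DecidableEq ι] (u : ι → ℂ) (a b o : ι) (η η' : ℂ)
    (SP SM : Set ι) [DecidablePred (· ∈ SP)] [DecidablePred (· ∈ SM)]
    (hab : a ≠ b) (hao : a ≠ o) (hbo : b ≠ o)
    (hua : u a = η) (hub : u b = η') (huo : u o = 1)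
    (hT : ∀ i, i ≠ a → i ≠ b → u i = 0 ∨ u i = 1 ∨ u i = -1)
    (hSP : ∀ i, i ∈ SP ↔ u i = 1 ∧ i ≠ o ∧ i ≠ a ∧ i ≠ b)
    (hSM : ∀ i, i ∈ SM ↔ u i = -1 ∧ i ≠ a ∧ i ≠ b)
    (F : ι → ℂ) :
    ∑ i, u i * F i = F o + (∑ i, if i ∈ SP then F i else 0) - (∑ i, if i ∈ SM then F i else 0)
      + η * F a + η' * F b := by
  have key : ∀ i, u i * F i = (if i = o then F i else 0) + (if i ∈ SP then F i else 0)
      - (if i ∈ SM then F i else 0) + η * (if i = a then F i else 0)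
      + η' * (if i = b then F i else 0) := by
    intro i
    by_cases hia : i = a
    · have h1 : i ∉ SP := fun h => ((hSP i).mp h).2.2.1 hia
      have h2 : i ∉ SM := fun h => ((hSM i).mp h).2.1 hia
      have h3 : i ≠ o := fun h => hao (hia ▸ h)
      have h4 : i ≠ b := fun h => hab (hia ▸ h)
      rw [if_neg h1, if_neg h2, if_neg h3, if_pos hia, if_neg h4, hia, hua]; ring
    · by_cases hib : i = b
      · have h1 : i ∉ SP := fun h => ((hSP i).mp h).2.2.2 hib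
        have h2 : i ∉ SM := fun h => ((hSM i).mp h).2.2 hib
        have h3 : i ≠ o := fun h => hbo (hib ▸ h)
        rw [if_neg h1, if_neg h2, if_neg h3, if_neg hia, if_pos hib, hib, hub]; ring
      · by_cases hio : i = o
        · have h1 : i ∉ SP := fun h => ((hSP i).mp h).2.1 hio
          have h2 : i ∉ SM := fun h => by
            have := ((hSM i).mp h).1
            rw [hio, huo] at this; norm_num at this
          rw [if_neg h1, if_neg h2, if_pos hio, if_neg hia, if_neg hib, hio, huo]; ring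
        · rcases hT i hia hib with h | h | h
          · have h1 : i ∉ SP := fun h' => by
              have := ((hSP i).mp h').1
              rw [h] at this; norm_num at this
            have h2 : i ∉ SM := fun h' => by
              have := ((hSM i).mp h').1
              rw [h] at this; norm_num at this
            rw [if_neg h1, if_neg h2, if_neg hio, if_neg hia, if_neg hib, h]; ring
          · have h1 : i ∈ SP := (hSP i).mpr ⟨h, hio, hia, hib⟩
            have h2 : i ∉ SM := fun h' => by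
              have := ((hSM i).mp h').1
              rw [h] at this; norm_num at this
            rw [if_pos h1, if_neg h2, if_neg hio, if_neg hia, if_neg hib, h]; ring
          · have h1 : i ∉ SP := fun h' => by
              have := ((hSP i).mp h').1
              rw [h] at this; norm_num at this
            have h2 : i ∈ SM := (hSM i).mpr ⟨h, hia, hib⟩
            rw [if_neg h1, if_pos h2, if_neg hio, if_neg hia, if_neg hib, h]; ring
  simp only [key, Finset.sum_add_distrib, Finset.sum_sub_distrib, ← Finset.mul_sum,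
    Finset.sum_ite_eq', Finset.mem_univ, if_true]

/-- Elementary facts on a complex number with real part `-1/2` and non-zero imaginary part. -/
theorem half_facts (w : ℂ) (hre : w.re = -1 / 2) (him : w.im ≠ 0) :
    w ≠ 0 ∧ w ≠ 1 ∧ w ≠ -1 ∧ w ≠ conj w ∧ w ≠ -conj w := by
  refine ⟨?_, ?_, ?_, ?_, ?_⟩
  · intro h; rw [h] at hre; norm_num at hre
  · intro h; rw [h] at hre; norm_num at hre
  · intro h; rw [h] at hre; norm_num at hre
  · intro h
    have := congrArg Complex.im h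
    rw [Complex.conj_im] at this
    exact him (by linarith)
  · intro h
    have := congrArg Complex.re h
    rw [Complex.neg_re, Complex.conj_re] at this
    rw [hre] at this; norm_num at this

theorem prod3 (hA : StProd3a.{u}) (hB : StProd3b.{u}) (hO : StOrth.{u}) (hP : StPair.{u}) :
    StProd3.{u} := by
  intro G _ _ p _ P χ x₁ x₂ hL hp3 hz
  classical
  let _ := Cfsg.Agent.H4.fintypeIrr G
  obtain ⟨mA, hA1, hA2, hA3⟩ := hA p P χ x₁ x₂ hL hp3 hz
  obtain ⟨mB, hB1, hB2, hB3⟩ := hB p P χ x₁ x₂ hL hp3 hz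
  -- the characters `χ`, `conj χ`, `1`
  obtain ⟨χI, hχI⟩ : ∃ χI : IrrCharacter G, χI.1 = χ := ⟨⟨χ, hL.irr⟩, rfl⟩
  obtain ⟨χb, hχb⟩ : ∃ χb : IrrCharacter G, χb.1 = fun g => conj (χ g) :=
    ⟨⟨_, Cfsg.Agent.H4.isIrrCharacter_conj hL.irr⟩, rfl⟩
  obtain ⟨oI, hoI⟩ : ∃ oI : IrrCharacter G, oI.1 = 1 :=
    ⟨Cfsg.Agent.H82.linChar 1, by ext g; simp [Cfsg.Agent.H82.linChar_apply]⟩
  have hχIv : ∀ g, χI.1 g = χ g := fun g => by rw [hχI]
  have hχbv : ∀ g, χb.1 g = conj (χ g) := fun g => by rw [hχb]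
  have hoIv : ∀ g, oI.1 g = 1 := fun g => by rw [hoI]; rfl
  -- the centre is trivial
  have hZ : ∀ z ∈ Subgroup.center G, z = 1 := fun z hzz => hL.faith z (hz z hzz)
  have hOv : ∀ (χ₀ : G → ℂ) (ψ : IrrCharacter G), ψ ∈ Ov χ₀ := by
    intro χ₀ ψ z hzz
    rw [hZ z hzz]; ring
  -- the value `η = χ x₁`
  have hx2 : χ x₂ = conj (χ x₁) := by
    have h1 := Cfsg.Agent.H82.irr_isConj χI (hL.grp.par3 hp3)
    rw [Cfsg.Agent.H82.irr_inv, hχI] at h1
    exact h1.symm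
  have hf2 : 2 ≤ charDegree χ := by have := hL.deg; have := hL.five; omega
  have hsum : χ x₁ + conj (χ x₁) = -1 := by rw [← hx2]; exact hL.sum
  have hsq : 2 * (χ x₁ * conj (χ x₁)) = (charDegree χ : ℂ) + 1 := by
    have := hL.sq
    rw [hx2, Complex.conj_conj] at this
    linear_combination this
  have hre : (χ x₁).re = -1 / 2 := by
    have := congrArg Complex.re hsum
    rw [Complex.add_re, Complex.conj_re, Complex.neg_re, Complex.one_re] at this
    linarith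
  have him : (χ x₁).im ≠ 0 := by
    intro h0
    have := congrArg Complex.re hsq
    rw [Complex.mul_conj] at this
    simp only [Complex.mul_re, Complex.re_ofNat, Complex.ofReal_re, Complex.im_ofNat,
      Complex.ofReal_im, mul_zero, sub_zero, Complex.add_re, Complex.natCast_re,
      Complex.one_re, Complex.normSq_apply, hre, h0] at this
    have hf2' : (2 : ℝ) ≤ (charDegree χ : ℝ) := by exact_mod_cast hf2
    linarith
  obtain ⟨hη0, hη1, hηm, hne, hne'⟩ := half_facts (χ x₁) hre him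
  obtain ⟨hc0, hc1, hcm, -, -⟩ := half_facts (conj (χ x₁))
    (by rw [Complex.conj_re]; exact hre) (by rw [Complex.conj_im]; exact neg_ne_zero.mpr him)
  -- the exceptional pair
  obtain ⟨ε, θ, θ', hε, -, -, hθ1, hθ2, hθ'1, hθ'2, -, hagree, hothers, -⟩ :=
    hP p P χ x₁ x₂ hL oI
  have hχIθ : χI = θ := by
    by_contra hne1
    by_cases h2 : χI = θ'
    · have h3 : χ x₁ = ε * χ x₂ := by rw [← hθ'1, ← h2, hχI]
      rw [hx2] at h3
      rcases hε with rfl | rfl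
      · exact hne (by simpa using h3)
      · exact hne' (by simpa using h3)
    · have := hothers χI (hOv _ _) hne1 h2
      rw [hχI] at this
      rcases this with ⟨h, -⟩ | ⟨h, -⟩ | ⟨h, -⟩
      exacts [hη0 h, hη1 h, hηm h]
  rw [← hχIθ] at hothers hagree hθ1
  have hχbθ : χb = θ' := by
    by_contra hne1
    by_cases h2 : χb = χI
    · have h3 : conj (χ x₁) = χ x₁ := by rw [← hχbv, h2, hχIv]
      exact hne h3.symm
    · have := hothers χb (hOv _ _) h2 hne1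
      rw [hχbv, hχbv] at this
      rcases this with ⟨h, -⟩ | ⟨h, -⟩ | ⟨h, -⟩
      exacts [hc0 h, hc1 h, hcm h]
  rw [← hχbθ] at hothers hagree
  have h5 : ∀ y : G, ¬ p ∣ orderOf y → conj (χ y) = χ y := by
    intro y hy
    have := hagree y hy
    rw [hχIv, hχbv] at this
    exact this.symm
  have hT : ∀ ψ : IrrCharacter G, ψ ≠ χI → ψ ≠ χb →
      (ψ.1 x₁ = 0 ∧ ψ.1 x₂ = 0) ∨ (ψ.1 x₁ = 1 ∧ ψ.1 x₂ = 1) ∨
        (ψ.1 x₁ = -1 ∧ ψ.1 x₂ = -1) := fun ψ h1 h2 => hothers ψ (hOv _ _) h1 h2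
  have hoa : oI ≠ χI := by
    intro h
    have h3 : (1 : ℂ) = χ x₁ := by rw [← hoIv x₁, h, hχIv]
    exact hη1 h3.symm
  have hob : oI ≠ χb := by
    intro h
    have h3 : (1 : ℂ) = conj (χ x₁) := by rw [← hoIv x₁, h, hχbv]
    exact hc1 h3.symm
  have hab : χI ≠ χb := by
    intro h
    have h3 : χI.1 x₁ = χb.1 x₁ := by rw [h]
    rw [hχIv, hχbv] at h3
    exact hne h3
  -- membership in `Tp`, `Tm`
  have hSP : ∀ ψ : IrrCharacter G, ψ ∈ Tp x₁ x₂ (1 : G → ℂ) ↔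
      ψ.1 x₁ = 1 ∧ ψ ≠ oI ∧ ψ ≠ χI ∧ ψ ≠ χb := by
    intro ψ
    constructor
    · rintro ⟨-, h1, h2, h3⟩
      refine ⟨h1, ?_, ?_, ?_⟩
      · intro h; rw [h] at h3; exact h3 hoI
      · intro h; rw [h, hχIv] at h1; exact hη1 h1
      · intro h; rw [h, hχbv] at h1; exact hc1 h1
    · rintro ⟨h1, h2, h3, h4⟩
      refine ⟨hOv _ _, h1, ?_, ?_⟩
      · rcases hT ψ h3 h4 with ⟨h, -⟩ | ⟨-, h⟩ | ⟨h, -⟩
        · rw [h1] at h; norm_num at h
        · exact h
        · rw [h1] at h; norm_num at h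
      · intro h; exact h2 (Subtype.ext (h.trans hoI.symm))
  have hSM : ∀ ψ : IrrCharacter G, ψ ∈ Tm x₁ x₂ (1 : G → ℂ) ↔
      ψ.1 x₁ = -1 ∧ ψ ≠ χI ∧ ψ ≠ χb := by
    intro ψ
    constructor
    · rintro ⟨-, h1, h2⟩
      refine ⟨h1, ?_, ?_⟩
      · intro h; rw [h, hχIv] at h1; exact hηm h1
      · intro h; rw [h, hχbv] at h1; exact hcm h1
    · rintro ⟨h1, h3, h4⟩
      refine ⟨hOv _ _, h1, ?_⟩
      rcases hT ψ h3 h4 with ⟨h, -⟩ | ⟨h, -⟩ | ⟨-, h⟩
      · rw [h1] at h; norm_num at h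
      · rw [h1] at h; norm_num at h
      · exact h
  have hPM : ∀ ψ : IrrCharacter G, ψ ∈ Tp x₁ x₂ (1 : G → ℂ) → ψ ∉ Tm x₁ x₂ (1 : G → ℂ) := by
    intro ψ h1 h2
    have e1 := h1.2.1
    rw [h2.2.1] at e1; norm_num at e1
  have hoP : oI ∉ Tp x₁ x₂ (1 : G → ℂ) := fun h => ((hSP oI).mp h).2.1 rfl
  have hoM : oI ∉ Tm x₁ x₂ (1 : G → ℂ) := fun h => by
    have e1 := ((hSM oI).mp h).1
    rw [hoIv] at e1; norm_num at e1
  have hbP : χb ∉ Tp x₁ x₂ (1 : G → ℂ) := fun h => ((hSP χb).mp h).2.2.2 rfl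
  have hbM : χb ∉ Tm x₁ x₂ (1 : G → ℂ) := fun h => ((hSM χb).mp h).2.2 rfl
  -- the sums over `Tp`, `Tm`
  obtain ⟨TP, hTP⟩ : ∃ TP : G → ℂ, ∀ g, TP g =
      ∑ ψ : IrrCharacter G, if ψ ∈ Tp x₁ x₂ (1 : G → ℂ) then ψ.1 g else 0 := ⟨_, fun g => rfl⟩
  obtain ⟨TM, hTM⟩ : ∃ TM : G → ℂ, ∀ g, TM g =
      ∑ ψ : IrrCharacter G, if ψ ∈ Tm x₁ x₂ (1 : G → ℂ) then ψ.1 g else 0 := ⟨_, fun g => rfl⟩
  obtain ⟨nP, hnP⟩ : ∃ nP : ℂ, nP =
      ∑ ψ : IrrCharacter G, if ψ ∈ Tp x₁ x₂ (1 : G → ℂ) then (1 : ℂ) else 0 := ⟨_, rfl⟩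
  obtain ⟨nM, hnM⟩ : ∃ nM : ℂ, nM =
      ∑ ψ : IrrCharacter G, if ψ ∈ Tm x₁ x₂ (1 : G → ℂ) then (1 : ℂ) else 0 := ⟨_, rfl⟩
  have hTPf : ∀ g, ∑ᶠ ψ ∈ Tp x₁ x₂ (1 : G → ℂ), ψ.1 g = TP g := fun g => by
    rw [hTP, finsum_mem_eq_sum_ite]
  have hTMf : ∀ g, ∑ᶠ ψ ∈ Tm x₁ x₂ (1 : G → ℂ), ψ.1 g = TM g := fun g => by
    rw [hTM, finsum_mem_eq_sum_ite]
  have hTP1 : TP x₁ = nP := by
    rw [hTP, hnP]
    refine Finset.sum_congr rfl fun ψ _ => ?_
    split_ifs with h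
    · exact h.2.1
    · rfl
  have hTP2 : TP x₂ = nP := by
    rw [hTP, hnP]
    refine Finset.sum_congr rfl fun ψ _ => ?_
    split_ifs with h
    · exact h.2.2.1
    · rfl
  have hTM1 : TM x₁ = -nM := by
    rw [hTM, hnM, ← Finset.sum_neg_distrib]
    refine Finset.sum_congr rfl fun ψ _ => ?_
    split_ifs with h
    · exact h.2.1
    · simp
  have hTM2 : TM x₂ = -nM := by
    rw [hTM, hnM, ← Finset.sum_neg_distrib]
    refine Finset.sum_congr rfl fun ψ _ => ?_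
    split_ifs with h
    · exact h.2.2
    · simp
  have hsplit : ∀ F : IrrCharacter G → ℂ, ∑ ψ : IrrCharacter G, ψ.1 x₁ * F ψ =
      F oI + (∑ ψ : IrrCharacter G, if ψ ∈ Tp x₁ x₂ (1 : G → ℂ) then F ψ else 0)
        - (∑ ψ : IrrCharacter G, if ψ ∈ Tm x₁ x₂ (1 : G → ℂ) then F ψ else 0)
        + χ x₁ * F χI + conj (χ x₁) * F χb := fun F =>
    sum_split (fun ψ : IrrCharacter G => ψ.1 x₁) χI χb oI (χ x₁) (conj (χ x₁))
      (Tp x₁ x₂ (1 : G → ℂ)) (Tm x₁ x₂ (1 : G → ℂ)) hab hoa.symm hob.symm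
      (hχIv x₁) (hχbv x₁) (hoIv x₁)
      (fun ψ h1 h2 => (hT ψ h1 h2).imp (fun h => h.1) (Or.imp (fun h => h.1) (fun h => h.1)))
      hSP hSM F
  obtain ⟨hO1, -, -, hO4⟩ := hO p P (charDegree χ) x₁ x₂ hL.grp oI
  have hOvsum : ∀ F : IrrCharacter G → ℂ, ∑ᶠ ψ ∈ Ov oI.1, F ψ = ∑ ψ : IrrCharacter G, F ψ :=
    fun F => by
      rw [finsum_mem_eq_sum_ite]
      exact Finset.sum_congr rfl fun ψ _ => if_pos (hOv _ _)
  have hpc : (p : ℂ) = 2 * (charDegree χ : ℂ) + 1 := by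
    have := hL.deg
    rw [← this]; push_cast; ring
  -- the count
  have hcount : nP + nM = (charDegree χ : ℂ) - 1 := by
    have h1 := hO1
    rw [hOvsum, hsplit] at h1
    have e1 : (∑ ψ : IrrCharacter G, if ψ ∈ Tp x₁ x₂ (1 : G → ℂ) then conj (ψ.1 x₁) else 0)
        = nP := by
      rw [hnP]
      refine Finset.sum_congr rfl fun ψ _ => ?_
      split_ifs with h
      · rw [h.2.1, map_one]
      · rfl
    have e2 : (∑ ψ : IrrCharacter G, if ψ ∈ Tm x₁ x₂ (1 : G → ℂ) then conj (ψ.1 x₁) else 0)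
        = -nM := by
      rw [hnM, ← Finset.sum_neg_distrib]
      refine Finset.sum_congr rfl fun ψ _ => ?_
      split_ifs with h
      · rw [h.2.1, map_neg, map_one]
      · simp
    rw [e1, e2, hoIv, hχIv, hχbv, map_one, Complex.conj_conj] at h1
    linear_combination h1 - hsq + hpc
  -- orthogonality with the `p`-regular columns
  have hreg : ∀ y : G, ¬ p ∣ orderOf y → TP y - TM y = χ y - 1 := by
    intro y hy
    have hy' : ¬ p ∣ orderOf y⁻¹ := by rwa [orderOf_inv]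
    have h1 := (hO4 y⁻¹ hy').1
    rw [hOvsum] at h1
    have h2 : ∑ ψ : IrrCharacter G, ψ.1 x₁ * ψ.1 y = 0 := by
      rw [← h1]
      refine Finset.sum_congr rfl fun ψ _ => ?_
      rw [Cfsg.Agent.H82.irr_inv, Complex.conj_conj]
    rw [hsplit, ← hTP, ← hTM, hoIv, hχIv, hχbv, h5 y hy] at h2
    linear_combination h2 - χ y * hsum
  -- the difference of the two decompositions
  obtain ⟨D, hD⟩ : ∃ D : G → ℂ, ∀ g, D g =
      χ g * conj (χ g) - 1 - TP g - (χ g * χ g - conj (χ g) - TM g) := ⟨_, fun g => rfl⟩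
  have hDreg : ∀ g : G, ¬ p ∣ orderOf g → D g = 0 := by
    intro g hg
    rw [hD, h5 g hg]
    linear_combination -(hreg g hg)
  have hD1 : D x₁ = 0 := by
    rw [hD, hTP1, hTM1]
    linear_combination hsq + (1 - χ x₁) * hsum - hcount
  have hD2 : D x₂ = 0 := by
    rw [hD, hTP2, hTM2, hx2, Complex.conj_conj]
    linear_combination hsq + (1 - conj (χ x₁)) * hsum - hcount
  have hDconj : ∀ g g' : G, IsConj g g' → D g = D g' := by
    intro g g' hc
    have hχc : χ g = χ g' := by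
      have := Cfsg.Agent.H82.irr_isConj χI hc
      rwa [hχI] at this
    have hTPc : TP g = TP g' := by
      rw [hTP, hTP]
      exact Finset.sum_congr rfl fun ψ _ => by rw [Cfsg.Agent.H82.irr_isConj ψ hc]
    have hTMc : TM g = TM g' := by
      rw [hTM, hTM]
      exact Finset.sum_congr rfl fun ψ _ => by rw [Cfsg.Agent.H82.irr_isConj ψ hc]
    rw [hD, hD, hχc, hTPc, hTMc]
  have hD0 : ∀ g : G, D g = 0 := by
    intro g
    by_cases hg : p ∣ orderOf g
    · obtain ⟨z, hzz, h | h⟩ := hL.grp.sing g hg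
      · rw [hZ z hzz, mul_one] at h
        rw [hDconj g x₁ h]; exact hD1
      · rw [hZ z hzz, mul_one] at h
        rw [hDconj g x₂ h]; exact hD2
    · exact hDreg g hg
  -- the two decompositions, pointwise
  have hAg : ∀ g, χ g * conj (χ g) = ∑ ψ : IrrCharacter G, (mA ψ : ℂ) * ψ.1 g := by
    intro g
    have := congrFun hA1 g
    rw [Cfsg.Agent.H4.finsum_irr_eq_sum, Finset.sum_apply] at this
    simpa using this
  have hBg : ∀ g, χ g * χ g = ∑ ψ : IrrCharacter G, (mB ψ : ℂ) * ψ.1 g := by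
    intro g
    have := congrFun hB1 g
    rw [Cfsg.Agent.H4.finsum_irr_eq_sum, Finset.sum_apply] at this
    simpa using this
  -- the coefficients of `D` vanish
  obtain ⟨c, hc⟩ : ∃ c : IrrCharacter G → ℂ, ∀ ψ, c ψ =
      (mA ψ : ℂ) - (if ψ = oI then 1 else 0) - (if ψ ∈ Tp x₁ x₂ (1 : G → ℂ) then 1 else 0)
        - ((mB ψ : ℂ) - (if ψ = χb then 1 else 0)
          - (if ψ ∈ Tm x₁ x₂ (1 : G → ℂ) then 1 else 0)) := ⟨_, fun ψ => rfl⟩
  have hc0' : ∀ ψ, c ψ = 0 := by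
    apply Fintype.linearIndependent_iff.mp (Cfsg.Agent.H4.irr_linearIndependent (G := G))
    ext g
    simp only [Finset.sum_apply, Pi.smul_apply, smul_eq_mul, Pi.zero_apply]
    calc ∑ ψ : IrrCharacter G, c ψ * ψ.1 g
        = ∑ ψ : IrrCharacter G, ((mA ψ : ℂ) * ψ.1 g - (if ψ = oI then ψ.1 g else 0)
            - (if ψ ∈ Tp x₁ x₂ (1 : G → ℂ) then ψ.1 g else 0)
            - ((mB ψ : ℂ) * ψ.1 g - (if ψ = χb then ψ.1 g else 0)
              - (if ψ ∈ Tm x₁ x₂ (1 : G → ℂ) then ψ.1 g else 0))) :=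
          Finset.sum_congr rfl fun ψ _ => by rw [hc]; split_ifs <;> ring
      _ = D g := by
          simp only [Finset.sum_sub_distrib, Finset.sum_ite_eq', Finset.mem_univ, if_true]
          rw [hD, hAg, hBg, hTP, hTM, hoIv, hχbv]
      _ = 0 := hD0 g
  have hA0 : ∀ ψ : IrrCharacter G, ψ ≠ oI → ψ ∉ Tp x₁ x₂ (1 : G → ℂ) → mA ψ = 0 := by
    intro ψ h1 h2
    by_contra h
    exact h2 (hA3 ψ h (fun h' => h1 (Subtype.ext (h'.trans hoI.symm)))).1
  have hB0 : ∀ ψ : IrrCharacter G, ψ ≠ χb → ψ ∉ Tm x₁ x₂ (1 : G → ℂ) → mB ψ = 0 := by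
    intro ψ h1 h2
    by_contra h
    exact h2 (hB3 ψ h (fun h' => h1 (Subtype.ext (h'.trans hχb.symm)))).1
  have hAP : ∀ ψ : IrrCharacter G, ψ ∈ Tp x₁ x₂ (1 : G → ℂ) → mA ψ = 1 := by
    intro ψ h2
    have h1 : ψ ≠ oI := fun h => hoP (h ▸ h2)
    have hb : ψ ≠ χb := fun h => hbP (h ▸ h2)
    have hm : ψ ∉ Tm x₁ x₂ (1 : G → ℂ) := hPM ψ h2
    have := hc0' ψ
    rw [hc, if_neg h1, if_pos h2, if_neg hb, if_neg hm, hB0 ψ hb hm] at this
    have h3 : (mA ψ : ℂ) = 1 := by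
      push_cast at this
      linear_combination this
    exact_mod_cast h3
  have hBM : ∀ ψ : IrrCharacter G, ψ ∈ Tm x₁ x₂ (1 : G → ℂ) → mB ψ = 1 := by
    intro ψ h2
    have h1 : ψ ≠ oI := fun h => hoM (h ▸ h2)
    have hb : ψ ≠ χb := fun h => hbM (h ▸ h2)
    have hm : ψ ∉ Tp x₁ x₂ (1 : G → ℂ) := fun h => hPM ψ h h2
    have := hc0' ψ
    rw [hc, if_neg h1, if_neg hm, if_neg hb, if_pos h2, hA0 ψ h1 hm] at this
    have h3 : (mB ψ : ℂ) = 1 := by
      push_cast at this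
      linear_combination -this
    exact_mod_cast h3
  have hmA : ∀ ψ : IrrCharacter G, (mA ψ : ℂ) =
      (if ψ = oI then 1 else 0) + (if ψ ∈ Tp x₁ x₂ (1 : G → ℂ) then 1 else 0) := by
    intro ψ
    by_cases h1 : ψ = oI
    · rw [if_pos h1, h1, if_neg hoP, hA2 oI hoI]; norm_num
    · by_cases h2 : ψ ∈ Tp x₁ x₂ (1 : G → ℂ)
      · rw [if_neg h1, if_pos h2, hAP ψ h2]; norm_num
      · rw [if_neg h1, if_neg h2, hA0 ψ h1 h2]; norm_num
  have hmB : ∀ ψ : IrrCharacter G, (mB ψ : ℂ) =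
      (if ψ = χb then 1 else 0) + (if ψ ∈ Tm x₁ x₂ (1 : G → ℂ) then 1 else 0) := by
    intro ψ
    by_cases h1 : ψ = χb
    · rw [if_pos h1, h1, if_neg hbM, hB2 χb hχb]; norm_num
    · by_cases h2 : ψ ∈ Tm x₁ x₂ (1 : G → ℂ)
      · rw [if_neg h1, if_pos h2, hBM ψ h2]; norm_num
      · rw [if_neg h1, if_neg h2, hB0 ψ h1 h2]; norm_num
  -- the conclusions
  have c1 : ∀ g : G, χ g * conj (χ g) = 1 + ∑ᶠ ψ ∈ Tp x₁ x₂ (1 : G → ℂ), ψ.1 g := by
    intro g
    rw [hTPf, hAg, hTP]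
    calc ∑ ψ : IrrCharacter G, (mA ψ : ℂ) * ψ.1 g
        = ∑ ψ : IrrCharacter G, ((if ψ = oI then ψ.1 g else 0)
            + (if ψ ∈ Tp x₁ x₂ (1 : G → ℂ) then ψ.1 g else 0)) :=
          Finset.sum_congr rfl fun ψ _ => by rw [hmA]; split_ifs <;> ring
      _ = _ := by
          rw [Finset.sum_add_distrib, Finset.sum_ite_eq', if_pos (Finset.mem_univ _), hoIv]
  have c2 : ∀ g : G, χ g * χ g = conj (χ g) + ∑ᶠ ψ ∈ Tm x₁ x₂ (1 : G → ℂ), ψ.1 g := by
    intro g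
    rw [hTMf, hBg, hTM]
    calc ∑ ψ : IrrCharacter G, (mB ψ : ℂ) * ψ.1 g
        = ∑ ψ : IrrCharacter G, ((if ψ = χb then ψ.1 g else 0)
            + (if ψ ∈ Tm x₁ x₂ (1 : G → ℂ) then ψ.1 g else 0)) :=
          Finset.sum_congr rfl fun ψ _ => by rw [hmB]; split_ifs <;> ring
      _ = _ := by
          rw [Finset.sum_add_distrib, Finset.sum_ite_eq', if_pos (Finset.mem_univ _), hχbv]
  have c4 : ∀ ψ ∈ Tm x₁ x₂ (1 : G → ℂ), charDegree ψ.1 + 1 = p := by
    intro ψ hψ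
    have h1 : mB ψ ≠ 0 := by rw [hBM ψ hψ]; exact one_ne_zero
    have hb : ψ ≠ χb := fun h => hbM (h ▸ hψ)
    exact (hB3 ψ h1 (fun h' => hb (Subtype.ext (h'.trans hχb.symm)))).2
  refine ⟨c1, c2, ?_, c4, h5, ?_⟩
  · intro ψ hψ
    have h1 : mA ψ ≠ 0 := by rw [hAP ψ hψ]; exact one_ne_zero
    exact (hA3 ψ h1 hψ.2.2.2).2
  · -- the count of `Tm`
    have hcard : (Nat.card (Tm x₁ x₂ (1 : G → ℂ)) : ℂ) = nM := by
      rw [hnM, Nat.card_eq_fintype_card, Fintype.card_subtype, Finset.sum_boole]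
    have hχ1 : χ 1 = (charDegree χ : ℂ) := by
      have := Cfsg.Agent.H82.irr_one_eq_charDegree χI
      rwa [hχI] at this
    have hTM1' : TM 1 = 2 * (charDegree χ : ℂ) * nM := by
      rw [hTM, hnM, Finset.mul_sum]
      refine Finset.sum_congr rfl fun ψ _ => ?_
      split_ifs with h
      · have h1 := c4 ψ h
        have h2 : charDegree ψ.1 = 2 * charDegree χ := by have := hL.deg; omega
        rw [Cfsg.Agent.H82.irr_one_eq_charDegree ψ, h2]; push_cast; ring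
      · simp
    have h6 := c2 1
    rw [hTMf, hTM1', hχ1, Complex.conj_natCast] at h6
    have hf0 : (charDegree χ : ℂ) ≠ 0 := by
      have : 0 < charDegree χ := by omega
      exact_mod_cast this.ne'
    have h7 : (charDegree χ : ℂ) = 1 + 2 * nM := by
      apply mul_left_cancel₀ hf0
      linear_combination h6
    rw [← hcard] at h7
    have h8 : charDegree χ = 1 + 2 * Nat.card (Tm x₁ x₂ (1 : G → ℂ)) := by exact_mod_cast h7
    omega

/-- The piece S4504-EXH3, verbatim. -/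
example (hA : Cfsg.Agent.H79.Br.StProd3a.{u}) (hB : Cfsg.Agent.H79.Br.StProd3b.{u})
    (hO : Cfsg.Agent.H79.Br.StOrth.{u}) (hP : Cfsg.Agent.H79.Br.StPair.{u}) :
    Cfsg.Agent.H79.Br.StProd3.{u} := prod3 hA hB hO hP

end Cfsg.Agent.H91.Br
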