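import Mathlib
import Cfsg.Agent.H86.GsDefs

set_option autoImplicit false

/-!
# GS-PROP (helper91, for helper86's S5665 project)

One good transvection centre spreads to all vectors, given the torus maps.
-/

namespace Cfsg.Agent.H91.Gs

open Cfsg Cfsg.Geo Cfsg.Agent.H95 Cfsg.Agent.H86.Gs
open scoped MatrixGroups Matrix

universe u

section

variable {m : ℕ} {F : Type u} [Field F] {J : Mat m F} {δ : F}

lemma norm_ne (C : Ctx J δ) {p q : F} (h : ¬ (p = 0 ∧ q = 0)) : p * p + δ * q * q ≠ 0 := by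
  by_cases hq : q = 0
  · subst hq
    have hp : p ≠ 0 := fun hp => h ⟨hp, rfl⟩
    simpa using hp
  · intro h0
    apply C.irr (p / q)
    field_simp
    linear_combination h0

lemma J_comb (C : Ctx J δ) (p q : F) (x : V m F) :
    J *ᵥ (p • x + q • (J *ᵥ x)) = (-(δ * q)) • x + p • (J *ᵥ x) := by
  rw [Matrix.mulVec_add, Matrix.mulVec_smul, Matrix.mulVec_smul, C.sq]
  module

lemma K_inv (C : Ctx J δ) {p q : F} (hN : p * p + δ * q * q ≠ 0) (x : V m F) :
    x = (p / (p * p + δ * q * q)) • (p • x + q • (J *ᵥ x))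
      + (-q / (p * p + δ * q * q)) • (J *ᵥ (p • x + q • (J *ᵥ x))) := by
  rw [J_comb C]
  have hN' : p ^ 2 + δ * q ^ 2 ≠ 0 := by
    intro h; apply hN; linear_combination h
  match_scalars <;> field_simp <;> ring

lemma span2 {M : Subgroup (GL (Fin m ⊕ Fin m) F)} {u w : V m F}
    (hu : u ∈ transvCenters M) (hw : w ∈ transvCenters M) (h : sympForm m F w u ≠ 0) (a b : F) :
    a • w + b • u ∈ transvCenters M := by
  by_cases ha : a = 0
  · subst ha
    rw [zero_smul, zero_add]
    exact transvCenters_smul hu b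
  · have h1 := transvCenters_transv hu hw (b / a / sympForm m F w u)
    have h2 := transvCenters_smul h1 a
    have e : a • (w + (b / a / sympForm m F w u * sympForm m F w u) • u) = a • w + b • u := by
      rw [div_mul_cancel₀ _ h, smul_add, smul_smul, mul_div_cancel₀ _ ha]
    rwa [e] at h2

/-- The norm-one element `k₁ = al + be J`. -/
def al (δ : F) : F := (1 - δ) / (1 + δ)
def be (δ : F) : F := 2 / (1 + δ)

lemma one_add_ne (C : Ctx J δ) : (1 : F) + δ ≠ 0 := by
  have := C.irr 1
  simpa using this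

lemma al_be (C : Ctx J δ) : al δ * al δ + δ * be δ * be δ = 1 := by
  have := one_add_ne C
  unfold al be
  field_simp
  ring

lemma be_ne (C : Ctx J δ) : be δ ≠ 0 := div_ne_zero C.two (one_add_ne C)

lemma proj_self {e : V m F} (h : psi J e ≠ 0) : proj J e e = e := by
  show (psi J e)⁻¹ • (psi J e • e - sympForm m F e e • (J *ᵥ e)) = e
  rw [sympForm_self, zero_smul, sub_zero, smul_smul, inv_mul_cancel₀ h, one_smul]

lemma lemA (hTor : StTor.{u}) (C : Ctx J δ) {M : Subgroup (GL (Fin m ⊕ Fin m) F)}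
    (hM : M ≤ spGL m F) (hT : HasTor J δ M) {z : V m F} (hz : psi J z ≠ 0)
    (hzX : z ∈ transvCenters M) (a b : F) : a • z + b • (J *ᵥ z) ∈ transvCenters M := by
  obtain ⟨c, hc, -, hcx⟩ := hTor J δ C z (al δ) (be δ) hz (al_be C)
  have hcM : c ∈ M := hT z (al δ) (be δ) hz (al_be C) c hcx
  have h1 : (c : Mat m F) *ᵥ z = al δ • z + be δ • (J *ᵥ z) := by
    rw [hcx, tor, proj_self hz]; module
  have h2 : (c : Mat m F) *ᵥ z ∈ transvCenters M := transvCenters_mulVec hcM hc hzX
  rw [h1] at h2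
  have h3 : sympForm m F z (al δ • z + be δ • (J *ᵥ z)) ≠ 0 := by
    rw [sympForm_add_right, sympForm_smul_right, sympForm_smul_right, sympForm_self, mul_zero,
      zero_add]
    exact mul_ne_zero (be_ne C) hz
  have h4 := span2 h2 hzX h3 (a - al δ * (b / be δ)) (b / be δ)
  have e : (a - al δ * (b / be δ)) • z + (b / be δ) • (al δ • z + be δ • (J *ᵥ z))
      = a • z + b • (J *ᵥ z) := by
    have := be_ne C
    match_scalars <;> field_simp <;> ring
  rwa [e] at h4

lemma lemA' (hTor : StTor.{u}) (C : Ctx J δ) {M : Subgroup (GL (Fin m ⊕ Fin m) F)}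
    (hM : M ≤ spGL m F) (hT : HasTor J δ M) {x : V m F} {p q : F} (hx : psi J x ≠ 0)
    (hN : p * p + δ * q * q ≠ 0) (h : p • x + q • (J *ᵥ x) ∈ transvCenters M) :
    x ∈ transvCenters M := by
  have hg : psi J (p • x + q • (J *ᵥ x)) ≠ 0 := by
    rw [C.psi_comb]; exact mul_ne_zero hN hx
  have := lemA hTor C hM hT hg h (p / (p * p + δ * q * q)) (-q / (p * p + δ * q * q))
  rwa [← K_inv C hN x] at this

lemma lemB (hTor : StTor.{u}) (C : Ctx J δ) {M : Subgroup (GL (Fin m ⊕ Fin m) F)}
    (hM : M ≤ spGL m F) (hT : HasTor J δ M) {z e' : V m F} (hz : psi J z ≠ 0)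
    (hzX : z ∈ transvCenters M) (he' : psi J e' ≠ 0)
    (hno : ¬ (sympForm m F z e' = 0 ∧ sympForm m F z (J *ᵥ e') = 0)) :
    e' ∈ transvCenters M := by
  obtain ⟨c, hc, -, hcx⟩ := hTor J δ C e' (al δ) (be δ) he' (al_be C)
  have hcM : c ∈ M := hT e' (al δ) (be δ) he' (al_be C) c hcx
  obtain ⟨A, hA⟩ : ∃ A, sympForm m F z (J *ᵥ e') = A := ⟨_, rfl⟩
  obtain ⟨B, hB⟩ : ∃ B, sympForm m F z e' = B := ⟨_, rfl⟩
  obtain ⟨ψ, hψ⟩ : ∃ ψ, psi J e' = ψ := ⟨_, rfl⟩
  rw [hA, hB] at hno
  rw [hψ] at he'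
  have hl : proj J e' z = (ψ⁻¹ * A) • e' + (-(ψ⁻¹ * B)) • (J *ᵥ e') := by
    unfold proj
    rw [hA, hB, hψ]
    module
  have hψi : ψ⁻¹ ≠ 0 := inv_ne_zero he'
  have hNl : (ψ⁻¹ * A) * (ψ⁻¹ * A) + δ * (-(ψ⁻¹ * B)) * (-(ψ⁻¹ * B)) ≠ 0 := by
    apply norm_ne C
    rintro ⟨h1, h2⟩
    apply hno
    constructor
    · exact (mul_eq_zero.mp (neg_eq_zero.mp h2)).resolve_left hψi
    · exact (mul_eq_zero.mp h1).resolve_left hψi
  have hlg : psi J (proj J e' z) ≠ 0 := by
    rw [hl, C.psi_comb, hψ]; exact mul_ne_zero hNl he'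
  have hcz : (c : Mat m F) *ᵥ z
      = z + ((al δ - 1) • proj J e' z + be δ • (J *ᵥ proj J e' z)) := by
    rw [hcx]; rfl
  have hczX : (c : Mat m F) *ᵥ z ∈ transvCenters M := transvCenters_mulVec hcM hc hzX
  have hf : sympForm m F z ((c : Mat m F) *ᵥ z)
      = be δ * (ψ * ((ψ⁻¹ * A) * (ψ⁻¹ * A) + δ * (-(ψ⁻¹ * B)) * (-(ψ⁻¹ * B)))) := by
    rw [hcz, hl, J_comb C]
    simp only [sympForm_add_right, sympForm_smul_right, sympForm_self, hA, hB]
    field_simp
    ring
  have hf' : sympForm m F z ((c : Mat m F) *ᵥ z) ≠ 0 := by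
    rw [hf]; exact mul_ne_zero (be_ne C) (mul_ne_zero he' hNl)
  have h1 := span2 hczX hzX hf' 1 (-1)
  have e1 : (1 : F) • z + (-1 : F) • ((c : Mat m F) *ᵥ z)
      = (1 - al δ) • proj J e' z + (-be δ) • (J *ᵥ proj J e' z) := by
    rw [hcz]; module
  rw [e1] at h1
  have h2 : proj J e' z ∈ transvCenters M :=
    lemA' hTor C hM hT hlg (norm_ne C (fun h => be_ne C (neg_eq_zero.mp h.2))) h1
  rw [hl] at h2
  exact lemA' hTor C hM hT (by rw [hψ]; exact he') hNl h2

lemma lemC (hTor : StTor.{u}) (C : Ctx J δ) {M : Subgroup (GL (Fin m ⊕ Fin m) F)}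
    (hM : M ≤ spGL m F) (hT : HasTor J δ M) {z : V m F} (hz : psi J z ≠ 0)
    (hzX : z ∈ transvCenters M) {e' : V m F} (he' : psi J e' ≠ 0) :
    e' ∈ transvCenters M := by
  by_cases hno : sympForm m F z e' = 0 ∧ sympForm m F z (J *ᵥ e') = 0
  · obtain ⟨h1, h2⟩ := hno
    have key : ∀ w : V m F, psi J w ≠ 0 → sympForm m F z w = 0 →
        sympForm m F z (J *ᵥ w) = 0 → psi J z + psi J w ≠ 0 →
        sympForm m F w (J *ᵥ e') ≠ 0 → e' ∈ transvCenters M := by
      intro w hw hw1 hw2 hsum hwe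
      have hw3 : sympForm m F w (J *ᵥ z) = 0 := by
        rw [C.skew', sympForm_skew, neg_neg]; exact hw2
      have hpsi : psi J (z + w) = psi J z + psi J w := by
        unfold psi
        rw [Matrix.mulVec_add]
        simp only [sympForm_add_left, sympForm_add_right]
        rw [hw2, hw3]; ring
      have hg : psi J (z + w) ≠ 0 := by rw [hpsi]; exact hsum
      have hX : z + w ∈ transvCenters M := by
        apply lemB hTor C hM hT hz hzX hg
        rintro ⟨-, h⟩
        rw [Matrix.mulVec_add, sympForm_add_right, hw2, add_zero] at h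
        exact hz h
      apply lemB hTor C hM hT hg hX he'
      rintro ⟨-, h⟩
      rw [sympForm_add_left, h2, zero_add] at h
      exact hwe h
    by_cases hs : psi J z + psi J e' = 0
    · have hJJ : J *ᵥ (e' + J *ᵥ e') = (-δ) • e' + J *ᵥ e' := by
        rw [Matrix.mulVec_add, C.sq]; module
      have hpw : psi J (e' + J *ᵥ e') = (1 + δ) * psi J e' := by
        have := C.psi_comb 1 1 e'
        rw [one_smul, one_smul] at this
        rw [this]; ring
      apply key (e' + J *ᵥ e')
      · rw [hpw]; exact mul_ne_zero (one_add_ne C) he'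
      · rw [sympForm_add_right, h1, h2, add_zero]
      · rw [hJJ, sympForm_add_right, sympForm_smul_right, h1, h2]; ring
      · rw [hpw]; intro h; apply mul_ne_zero C.delta_ne he'; linear_combination h - hs
      · rw [sympForm_add_left, sympForm_self, add_zero]; exact he'
    · exact key e' he' h1 h2 hs he'
  · exact lemB hTor C hM hT hz hzX he' hno

end

/-- **GS-PROP.** -/
theorem gsProp (hTor : StTor.{u}) (hGood : StGood.{u}) : StProp.{u} := by
  intro m F _ J δ C hm M hM hT z hz hzX v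
  by_cases hv : psi J v ≠ 0
  · exact lemC hTor C hM hT hz hzX hv
  · push Not at hv
    by_cases hv0 : v = 0
    · subst hv0
      have := transvCenters_smul hzX 0
      rwa [zero_smul] at this
    · obtain ⟨x, hx⟩ := H17.sympForm_exists_ne m v hv0
      obtain ⟨y₁, y₂, hy₁, hy₂, -, -, -, -, hxy⟩ := hGood J δ C hm 0 x (sympForm_zero_right _)
        (by rw [Matrix.mulVec_zero]; exact sympForm_zero_right _)
      have h1 : ∃ e₀, psi J e₀ ≠ 0 ∧ sympForm m F v e₀ ≠ 0 := by
        by_cases h1 : sympForm m F v y₁ = 0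
        · refine ⟨y₂, hy₂, ?_⟩
          intro h2; apply hx; rw [hxy, sympForm_add_right, h1, h2, add_zero]
        · exact ⟨y₁, hy₁, h1⟩
      obtain ⟨e₀, he₀, hve₀⟩ := h1
      have hsum : psi J (v - e₀) + psi J (v + e₀) = 2 * psi J e₀ := by
        unfold psi at hv ⊢
        rw [Matrix.mulVec_sub, Matrix.mulVec_add]
        simp only [sympForm_add_left, sympForm_add_right, sympForm_sub_left, sympForm_sub_right]
        rw [hv]; ring
      have h2 : ∃ e, psi J e ≠ 0 ∧ sympForm m F v e ≠ 0 ∧ psi J (v - e) ≠ 0 := by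
        by_cases h1 : psi J (v - e₀) = 0
        · refine ⟨-e₀, ?_, ?_, ?_⟩
          · have h := C.psi_comb (-1) 0 e₀
            rw [show (-1 : F) • e₀ + (0 : F) • (J *ᵥ e₀) = -e₀ by module] at h
            rw [h]
            intro h'
            apply he₀
            linear_combination h'
          · rw [show -e₀ = (-1 : F) • e₀ by module, sympForm_smul_right]
            intro h'
            apply hve₀
            linear_combination -h'
          · rw [sub_neg_eq_add]
            intro h'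
            rw [h1, h', add_zero] at hsum
            exact mul_ne_zero C.two he₀ hsum.symm
        · exact ⟨e₀, he₀, hve₀, h1⟩
      obtain ⟨e, he, hve, hg⟩ := h2
      have heX := lemC hTor C hM hT hz hzX he
      have hgX := lemC hTor C hM hT hz hzX hg
      have hf : sympForm m F (v - e) e = sympForm m F v e := by
        rw [sympForm_sub_left, sympForm_self, sub_zero]
      have := transvCenters_transv heX hgX (sympForm m F v e)⁻¹
      rw [hf, inv_mul_cancel₀ hve, one_smul, sub_add_cancel] at this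
      exact this

example (hTor : Cfsg.Agent.H86.Gs.StTor.{u}) (hGood : Cfsg.Agent.H86.Gs.StGood.{u}) :
    Cfsg.Agent.H86.Gs.StProp.{u} := gsProp hTor hGood

end Cfsg.Agent.H91.Gs
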