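import Mathlib
import Cfsg.Agent.H60.L34Cfg

/-!
# helper91: the two `E₁₆`'s in a cover of `L₃(4)` by an elementary abelian 2-group (S3154)
-- shared definitions

`X` quasisimple, `Z(X)` of exponent 2, `X/Z(X) ≅ L₃(4)`; `H ≠ K` in a Sylow 2-subgroup, containing
`Z(X)`, with images elementary abelian of order 16.  After conjugating, the images are
`E₁ = heisPSL '' sgA` (`p = 0`) and `E₂ = heisPSL '' sgB` (`s = 0`).  Their preimages have
exponent 2 (fusion, piece EA of S5387), meet in the centre of their join, and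
`N(E₁) = E₁ ⋊ j₁(SL₂(4))`, whose preimage splits over `Z(X)` by transfer since a Sylow 2-subgroup
of `j₁(SL₂(4))` lies in `E₂`.
-/

set_option autoImplicit false

namespace Cfsg.Agent.H91.L34N

open Subgroup Cfsg.Agent.H60 Cfsg.Agent.H60.L34

/-- The normalizer configuration: `N_L(E) = E ⋊ j(S)`, and `j` maps a subgroup `U` of odd index
into `E'`. -/
def NormCfg (L : Type*) [Group L] (E E' : Subgroup L) (S : Type*) [Group S] : Prop :=
  ∃ (j : S →* L) (U : Subgroup S), Function.Injective j ∧ (∀ A : S, j A ∈ E → A = 1) ∧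
    (∀ A : S, ∀ e ∈ E, j A * e * (j A)⁻¹ ∈ E) ∧
    (∀ g : L, (∀ e ∈ E, g * e * g⁻¹ ∈ E) → ∃ e ∈ E, ∃ A : S, g = e * j A) ∧
    Odd U.index ∧ ∀ u ∈ U, j u ∈ E'

/-- The image in `PSL₃(F)` of `sgA F = {p = 0}`. -/
noncomputable def e1 (F : Type*) [Field F] : Subgroup (Matrix.ProjectiveSpecialLinearGroup (Fin 3) F) :=
  (sgA F).map heisPSL

/-- The image in `PSL₃(F)` of `sgB F = {s = 0}`. -/
noncomputable def e2 (F : Type*) [Field F] : Subgroup (Matrix.ProjectiveSpecialLinearGroup (Fin 3) F) :=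
  (sgB F).map heisPSL

/-- Piece E16: the Heisenberg group over `F₄` has exactly two subgroups of exponent 2 and
order 16. -/
def E16Stmt.{u} : Prop :=
  ∀ {F : Type u} [Field F] [Fintype F], Fintype.card F = 4 →
    ∀ A : Subgroup (Heis F), (∀ a ∈ A, a * a = 1) → Nat.card ↥A = 16 → A = sgA F ∨ A = sgB F

/-- Piece SYL: every Sylow 2-subgroup of `PSL₃(4)` is conjugate into the unitriangular group. -/
def SylStmt.{u} : Prop :=
  ∀ {F : Type u} [Field F] [Fintype F], Fintype.card F = 4 →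
    ∀ P : Sylow 2 (Matrix.ProjectiveSpecialLinearGroup (Fin 3) F),
      ∃ c : Matrix.ProjectiveSpecialLinearGroup (Fin 3) F,
        ∀ x ∈ P, c * x * c⁻¹ ∈ (heisPSL (F := F)).range

/-- Piece ID: after composing with an inner automorphism, `H` and `K` are the full preimages of
`e1` and `e2` (in some order). -/
def IdStmt.{u, v} : Prop :=
  ∀ {X : Type u} [Group X] [Finite X] {F : Type v} [Field F] [Fintype F], Fintype.card F = 4 →
    ∀ φ : X →* Matrix.ProjectiveSpecialLinearGroup (Fin 3) F, Function.Surjective φ →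
    ∀ (T : Sylow 2 X) (H K : Subgroup X), H ≠ K → H ≤ T → K ≤ T → φ.ker ≤ H → φ.ker ≤ K →
    (∀ x ∈ H, x * x ∈ φ.ker) → (∀ x ∈ K, x * x ∈ φ.ker) →
    Nat.card ↥(H.map φ) = 16 → Nat.card ↥(K.map φ) = 16 →
    ∃ φ' : X →* Matrix.ProjectiveSpecialLinearGroup (Fin 3) F, Function.Surjective φ' ∧
      φ'.ker = φ.ker ∧
      ((H = (e1 F).comap φ' ∧ K = (e2 F).comap φ') ∨ (H = (e2 F).comap φ' ∧ K = (e1 F).comap φ'))

/-- Piece EAB: in a central extension of `PSL₃(F)` (`#F = 4`) by a group of exponent 2 the full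
preimages of `e1` and `e2` have exponent 2. -/
def EabStmt.{u, v} : Prop :=
  ∀ {X : Type u} [Group X] {F : Type v} [Field F] [Fintype F], Fintype.card F = 4 →
    ∀ φ : X →* Matrix.ProjectiveSpecialLinearGroup (Fin 3) F, Function.Surjective φ →
    φ.ker ≤ center X → (∀ z ∈ φ.ker, z * z = 1) →
    (∀ x : X, φ x ∈ e1 F → x * x = 1) ∧ (∀ x : X, φ x ∈ e2 F → x * x = 1)

/-- Piece CEN: if the full preimages of `e1` and `e2` are abelian, their intersection is the
centre of their join. -/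
def CenStmt.{u, v} : Prop :=
  ∀ {X : Type u} [Group X] {F : Type v} [Field F],
    ∀ φ : X →* Matrix.ProjectiveSpecialLinearGroup (Fin 3) F, Function.Surjective φ →
    (∀ x y : X, φ x ∈ e1 F → φ y ∈ e1 F → x * y = y * x) →
    (∀ x y : X, φ x ∈ e2 F → φ y ∈ e2 F → x * y = y * x) →
    (e1 F).comap φ ⊓ (e2 F).comap φ =
      (center ↥((e1 F).comap φ ⊔ (e2 F).comap φ)).map ((e1 F).comap φ ⊔ (e2 F).comap φ).subtype

/-- Piece NORM1: `N(e1) = e1 ⋊ j(SL₂(F))`, `j A = diag(A, 1)`, and the unitriangular subgroup of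
`SL₂(F)` is mapped into `e2`. -/
def Norm1Stmt.{u} : Prop :=
  ∀ {F : Type u} [Field F] [Fintype F], Fintype.card F = 4 →
    NormCfg (Matrix.ProjectiveSpecialLinearGroup (Fin 3) F) (e1 F) (e2 F)
      (Matrix.SpecialLinearGroup (Fin 2) F)

/-- Piece NORM2: `N(e2) = e2 ⋊ j(SL₂(F))`, `j A = diag(1, A)`, and the unitriangular subgroup of
`SL₂(F)` is mapped into `e1`. -/
def Norm2Stmt.{u} : Prop :=
  ∀ {F : Type u} [Field F] [Fintype F], Fintype.card F = 4 →
    NormCfg (Matrix.ProjectiveSpecialLinearGroup (Fin 3) F) (e2 F) (e1 F)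
      (Matrix.SpecialLinearGroup (Fin 2) F)

/-- Piece SPLIT: in a finite central extension `φ : X → L` by a group of exponent 2, if
`N_L(E) = E ⋊ j(S)` with `S` perfect and the full preimage of `E'` is abelian, then the
normalizer of the full preimage of `E` splits over it with a complement isomorphic to `S`. -/
def SplitStmt.{u, v, w} : Prop :=
  ∀ {X : Type u} [Group X] [Finite X] {L : Type v} [Group L] {S : Type w} [Group S] [Finite S]
    (φ : X →* L), Function.Surjective φ → φ.ker ≤ center X → (∀ z ∈ φ.ker, z * z = 1) →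
    ∀ E E' : Subgroup L, NormCfg L E E' S → commutator S = ⊤ →
    (∀ x y : X, φ x ∈ E' → φ y ∈ E' → x * y = y * x) →
    ∃ C : Subgroup X, C ≤ normalizer ((E.comap φ : Subgroup X) : Set X) ∧ C ⊓ E.comap φ = ⊥ ∧
      E.comap φ ⊔ C = normalizer ((E.comap φ : Subgroup X) : Set X) ∧ Nonempty (↥C ≃* S)

/-- Piece PERF: `SL₂(4)` is perfect. -/
def PerfStmt.{u} : Prop :=
  ∀ {F : Type u} [Field F] [Fintype F], Fintype.card F = 4 →
    commutator (Matrix.SpecialLinearGroup (Fin 2) F) = ⊤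

/-- Piece ISO: `SL₂(4) ≅ PSL₂(4)`. -/
def IsoStmt.{u} : Prop :=
  ∀ {F : Type u} [Field F] [Fintype F], Fintype.card F = 4 →
    Nonempty (Matrix.SpecialLinearGroup (Fin 2) F ≃* Matrix.ProjectiveSpecialLinearGroup (Fin 2) F)

end Cfsg.Agent.H91.L34N
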