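import Mathlib
import Cfsg.Agent.H43.MCDefs
import Cfsg.Agent.S0035

/-!
# S3905-FROBINT (helper91, for helper43): Frobenius' theorem for `C/Z ≤ N/Z`, inside `G`
-/

set_option autoImplicit false

namespace Cfsg.Agent.H91.MC

open Cfsg Cfsg.Agent.H43.MC
open scoped Pointwise

universe u

theorem mem_center_sub {G : Type*} [Group G] (N : Subgroup G) (n : ↥N) :
    n ∈ Subgroup.center ↥N ↔ (n : G) ∈ Subgroup.centralizer (N : Set G) := by
  rw [Subgroup.mem_center_iff, mem_cent_set]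
  constructor
  · intro h m hm
    have := h ⟨m, hm⟩
    exact congrArg Subtype.val this
  · intro h m
    exact Subtype.ext (h m.1 m.2)

theorem frobInt : StFrobInt.{u} := by
  intro G _ _ N C hCN hZC hCne hCZ hTI
  obtain ⟨π, hπ⟩ : ∃ π : ↥N →* ↥N ⧸ Subgroup.center ↥N,
      π = QuotientGroup.mk' (Subgroup.center ↥N) := ⟨_, rfl⟩
  have hπs : Function.Surjective π := by rw [hπ]; exact QuotientGroup.mk'_surjective _
  have hπ1 : ∀ n : ↥N, π n = 1 ↔ (n : G) ∈ ZN N := by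
    intro n
    rw [hπ, QuotientGroup.mk'_apply, QuotientGroup.eq_one_iff, mem_center_sub, mem_ZN]
    exact ⟨fun h => ⟨n.2, h⟩, fun h => h.2⟩
  obtain ⟨Q, hQ⟩ : ∃ Q : Subgroup (↥N ⧸ Subgroup.center ↥N), Q = (C.subgroupOf N).map π :=
    ⟨_, rfl⟩
  have hF1 : ∀ n : ↥N, π n ∈ Q ↔ (n : G) ∈ C := by
    intro n
    rw [hQ]
    constructor
    · intro h
      obtain ⟨c, hc, hcn⟩ := Subgroup.mem_map.mp h
      have h1 : π (c⁻¹ * n) = 1 := by rw [map_mul, map_inv, hcn, inv_mul_cancel]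
      have h2 := hZC ((hπ1 _).mp h1)
      have h3 : (c : G) ∈ C := Subgroup.mem_subgroupOf.mp hc
      have h4 : (n : G) = (c : G) * ((c⁻¹ * n : ↥N) : G) := by simp
      rw [h4]; exact C.mul_mem h3 h2
    · intro h
      exact Subgroup.mem_map_of_mem π (Subgroup.mem_subgroupOf.mpr h)
  have hconj : ∀ (g t : ↥N), π t ∈ MulAut.conj (π g) • Q ↔ (g : G)⁻¹ * t * g ∈ C := by
    intro g t
    rw [Subgroup.mem_pointwise_smul_iff_inv_smul_mem, MulAut.smul_def, MulAut.conj_inv_apply,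
      ← map_inv, ← map_mul, ← map_mul, hF1]
    rfl
  have hQfrob : IsFrobeniusComplement Q := by
    refine ⟨?_, ?_, ?_⟩
    · obtain ⟨c, hc, hcZ⟩ := SetLike.not_le_iff_exists.mp hCZ
      intro hbot
      have h1 : π ⟨c, hCN hc⟩ ∈ Q := (hF1 _).mpr hc
      rw [hbot, Subgroup.mem_bot, hπ1] at h1
      exact hcZ h1
    · obtain ⟨n, hn, hnC⟩ : ∃ n ∈ N, n ∉ C := by
        by_contra hh
        exact hCne (le_antisymm hCN (fun n hn => by_contra fun hnC => hh ⟨n, hn, hnC⟩))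
      intro htop
      have h1 : π ⟨n, hn⟩ ∈ Q := by rw [htop]; trivial
      exact hnC ((hF1 _).mp h1)
    · intro g hg
      obtain ⟨n, rfl⟩ := hπs g
      have hnC : (n : G) ∉ C := fun h => hg ((hF1 n).mpr h)
      rw [eq_bot_iff]
      intro t ht
      obtain ⟨t, rfl⟩ := hπs t
      rw [Subgroup.mem_inf] at ht
      have h1 := (hF1 t).mp ht.1
      have h2 := (hconj n t).mp ht.2
      rw [Subgroup.mem_bot, hπ1]
      exact hTI (n : G)⁻¹ (N.inv_mem n.2) (fun h => hnC (by simpa using C.inv_mem h)) t h1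
        (by simpa using h2)
  obtain ⟨Kbar, hKset, hKn, hKc⟩ := Cfsg.Agent.S0035.result Q hQfrob
  have hKmem : ∀ n : ↥N, π n ∈ Kbar ↔ ((n : G) ∈ ZN N ∨ ∀ m ∈ N, m * n * m⁻¹ ∉ C) := by
    intro n
    rw [← SetLike.mem_coe, hKset]
    change (π n = 1 ∨ ∀ g, π n ∉ MulAut.conj g • Q) ↔ _
    rw [hπ1]
    apply or_congr Iff.rfl
    constructor
    · intro h m hm hmC
      apply h (π ⟨m⁻¹, N.inv_mem hm⟩)
      rw [hconj]
      simpa using hmC
    · intro h g hg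
      obtain ⟨m, rfl⟩ := hπs g
      rw [hconj] at hg
      exact h (m : G)⁻¹ (N.inv_mem m.2) (by simpa using hg)
  obtain ⟨K, hKdef⟩ : ∃ K : Subgroup G, K = (Kbar.comap π).map N.subtype := ⟨_, rfl⟩
  have hKN : K ≤ N := by rw [hKdef]; exact Subgroup.map_subtype_le _
  have hK : ∀ k (hk : k ∈ N), k ∈ K ↔ π ⟨k, hk⟩ ∈ Kbar := by
    intro k hk
    rw [hKdef, Subgroup.mem_map]
    constructor
    · rintro ⟨x, hx, rfl⟩; exact hx
    · intro h; exact ⟨⟨k, hk⟩, h, rfl⟩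
  have h6 : ∀ k ∈ N, k ∈ K ↔ (k ∈ ZN N ∨ ∀ n ∈ N, n * k * n⁻¹ ∉ C) :=
    fun k hk => (hK k hk).trans (hKmem ⟨k, hk⟩)
  refine ⟨K, hKN, ?_, ?_, ?_, ?_, h6⟩
  · intro z hz
    exact (h6 z hz.1).mpr (Or.inl hz)
  · intro n hn k hkK
    have hk := hKN hkK
    rw [hK (n * k * n⁻¹) (N.mul_mem (N.mul_mem hn hk) (N.inv_mem hn))]
    have h1 : π ⟨n * k * n⁻¹, N.mul_mem (N.mul_mem hn hk) (N.inv_mem hn)⟩
        = π ⟨n, hn⟩ * π ⟨k, hk⟩ * (π ⟨n, hn⟩)⁻¹ := by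
      rw [← map_inv, ← map_mul, ← map_mul]; rfl
    rw [h1]
    exact hKn.conj_mem _ ((hK k hk).mp hkK) _
  · intro k hk hkC
    rcases (h6 k (hKN hk)).mp hk with h | h
    · exact h
    · exact absurd (by simpa using hkC) (h 1 N.one_mem)
  · intro n hn
    obtain ⟨⟨⟨kb, hkb⟩, ⟨qb, hqb⟩⟩, hprod⟩ := hKc.2 (π ⟨n, hn⟩)
    rw [hQ] at hqb
    obtain ⟨c, hc, rfl⟩ := Subgroup.mem_map.mp hqb
    have hcC : (c : G) ∈ C := Subgroup.mem_subgroupOf.mp hc
    have hprod' : kb * π c = π ⟨n, hn⟩ := hprod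
    have hkb' : π (⟨n, hn⟩ * c⁻¹) = kb := by
      rw [map_mul, map_inv, ← hprod']; group
    refine ⟨n * (c : G)⁻¹, ?_, c, hcC, by group⟩
    rw [hK _ (N.mul_mem hn (N.inv_mem c.2))]
    have h2 : (⟨n * (c : G)⁻¹, N.mul_mem hn (N.inv_mem c.2)⟩ : ↥N) = ⟨n, hn⟩ * c⁻¹ := rfl
    rw [h2, hkb']
    exact hkb

/-- The piece S3905-FROBINT, verbatim. -/
example : Cfsg.Agent.H43.MC.StFrobInt.{u} := frobInt

end Cfsg.Agent.H91.MC
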