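import Mathlib
import Cfsg.Agent.H45.S8Defs0

/-!
# S8-DIO (helper91, for helper45's S1158): the descent
-/

set_option autoImplicit false

namespace Cfsg.Agent.H91.S8

open Cfsg.Agent.H45.S8

universe u

theorem torSet_one (G : Type u) [Group G] : (TorSet G 1).ncard = 0 := by
  have h : TorSet G 1 = ∅ := by
    ext t
    simp only [Set.mem_empty_iff_false, iff_false]
    rintro ⟨h1, h2⟩
    rw [pow_one] at h2
    exact h1 h2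
  rw [h, Set.ncard_empty]

theorem card_regular {G : Type u} [Group G] [Finite G] (A : Subgroup G) :
    Nat.card {x : G // x ∈ A ∧ x ^ 1 ≠ 1} = Nat.card A - 1 := by
  have h1 : Nat.card {x : G // x ∈ A ∧ x ^ 1 ≠ 1} = ((A : Set G) \ {1}).ncard := by
    rw [← Nat.card_coe_set_eq]
    apply Nat.card_congr
    exact Equiv.subtypeEquivRight (fun x => by simp)
  rw [h1, Set.ncard_sdiff_singleton_of_mem (A.one_mem), ← Nat.card_coe_set_eq]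
  rfl

/-- The data attached to an element of prime order dividing `M`. -/
theorem classData (hTI1 : StTI1.{u}) (hTI2 : StTI2.{u}) (hTI3 : StTI3.{u}) (hTI4 : StTI4.{u})
    (hCLS : StClassCount.{u}) {G : Type u} [Group G] [Finite G] (M : ℕ) (hAb : HAb G M)
    (hDvd : HDvd G M) (hSyl : HSyl G M) (hSix : HSix G M) (y : G) (hy : (orderOf y).Prime)
    (hyM : orderOf y ∣ M) :
    Nat.card ↥(Subgroup.centralizer ({y} : Set G)) ∣ M ∧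
    1 < Nat.card ↥(Subgroup.centralizer ({y} : Set G)) ∧
    Nat.card ↥(Subgroup.centralizer ({y} : Set G)) ∣
      Nat.card ↥(Subgroup.normalizer
        ((Subgroup.centralizer ({y} : Set G) : Subgroup G) : Set G)) ∧
    Nat.card ↥(Subgroup.normalizer
        ((Subgroup.centralizer ({y} : Set G) : Subgroup G) : Set G)) ∣
      6 * Nat.card ↥(Subgroup.centralizer ({y} : Set G)) ∧
    (ConjSet (Subgroup.centralizer ({y} : Set G)) 1).ncard *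
        Nat.card ↥(Subgroup.normalizer
          ((Subgroup.centralizer ({y} : Set G) : Subgroup G) : Set G)) =
      Nat.card G * (Nat.card ↥(Subgroup.centralizer ({y} : Set G)) - 1) ∧
    IsCyclic ↥(Subgroup.centralizer ({y} : Set G)) ∧
    SelfC (Subgroup.centralizer ({y} : Set G)) ∧
    (Nat.card ↥(Subgroup.centralizer ({y} : Set G))).Coprime
      (Nat.card G / Nat.card ↥(Subgroup.centralizer ({y} : Set G))) := by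
  have hself : SelfC (Subgroup.centralizer ({y} : Set G)) := hTI1 G M hAb hDvd y hy hyM
  refine ⟨hDvd y hy hyM, ?_, ?_, hTI3 G M hAb hDvd hSyl hSix hTI1 hTI2 y hy hyM, ?_,
    hTI2 G M hAb hDvd hSyl y hy hyM, hself, hTI4 G M hAb hDvd hSyl hTI1 y hy hyM⟩
  · have hmem : y ∈ Subgroup.centralizer ({y} : Set G) := by
      rw [Subgroup.mem_centralizer_iff]
      intro h hh
      rw [Set.mem_singleton_iff.mp hh]
    have h1 : orderOf y ∣ Nat.card ↥(Subgroup.centralizer ({y} : Set G)) :=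
      Subgroup.orderOf_dvd_natCard _ hmem
    have h2 := Nat.le_of_dvd Nat.card_pos h1
    have h3 := hy.two_le
    omega
  · exact Subgroup.card_dvd_of_le Subgroup.le_normalizer
  · have h := hCLS G (Subgroup.centralizer ({y} : Set G)) 1
      (fun x hx hx1 => hself x hx (by simpa using hx1))
    rw [card_regular] at h
    exact h

theorem not_dvd_of_coprime {p a b : ℕ} (hp : p.Prime) (hab : a.Coprime b) (hb : p ∣ b) :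
    ¬ p ∣ a := by
  intro ha
  have h := Nat.dvd_gcd ha hb
  rw [hab.gcd_eq_one] at h
  exact hp.one_lt.ne' (Nat.dvd_one.mp h)

theorem dio : StDio.{u} := by
  intro G _ _ m hm hG hAb hDvd hSyl hSix hTI1 hTI2 hTI3 hTI4 hCop hCLS hPart hA1 hA2 hA3 hAC hT
  obtain ⟨hMG, -, hM1, -⟩ := hAC m hm
  have hMG' : MM m ∣ Nat.card G := by rw [hG]; exact hMG
  have cauchy : ∀ p : ℕ, p.Prime → p ∣ MM m → ∃ y : G, orderOf y = p := by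
    intro p hp hpM
    have : Fact p.Prime := ⟨hp⟩
    exact exists_prime_orderOf_dvd_card' (G := G) p (hpM.trans hMG')
  -- first class
  obtain ⟨p₁, hp₁, hp₁M⟩ := Nat.exists_prime_and_dvd hM1.ne'
  obtain ⟨y₁, hy₁⟩ := cauchy p₁ hp₁ hp₁M
  have hy₁p : (orderOf y₁).Prime := by rw [hy₁]; exact hp₁
  have hy₁M : orderOf y₁ ∣ MM m := by rw [hy₁]; exact hp₁M
  obtain ⟨ha₁M, ha₁, ha₁n, hn₁, hτ₁, hcyc₁, hself₁, hcop₁⟩ :=
    classData hTI1 hTI2 hTI3 hTI4 hCLS (MM m) hAb hDvd hSyl hSix y₁ hy₁p hy₁M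
  have hpart₁ := hPart G (MM m) hAb hDvd hSyl hTI1 hTI4 hMG' y₁ hy₁p hy₁M (MM m) dvd_rfl ha₁M
  rw [hG] at hτ₁
  -- abbreviations
  obtain ⟨a₁, ha₁def⟩ : ∃ a₁ : ℕ, a₁ = Nat.card ↥(Subgroup.centralizer ({y₁} : Set G)) :=
    ⟨_, rfl⟩
  obtain ⟨n₁, hn₁def⟩ : ∃ n₁ : ℕ, n₁ = Nat.card ↥(Subgroup.normalizer
      ((Subgroup.centralizer ({y₁} : Set G) : Subgroup G) : Set G)) := ⟨_, rfl⟩
  obtain ⟨τ₁, hτ₁def⟩ : ∃ τ₁ : ℕ, τ₁ =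
      (ConjSet (Subgroup.centralizer ({y₁} : Set G)) 1).ncard := ⟨_, rfl⟩
  rw [← ha₁def] at ha₁M ha₁ ha₁n hn₁ hτ₁ hcop₁ hpart₁
  rw [← hn₁def] at ha₁n hn₁ hτ₁
  rw [← hτ₁def] at hτ₁ hpart₁
  obtain ⟨M₁, hM₁⟩ : ∃ M₁ : ℕ, MM m = a₁ * M₁ := ha₁M
  have ha₁pos : 0 < a₁ := by omega
  have hM₁div : MM m / a₁ = M₁ := by rw [hM₁]; exact Nat.mul_div_cancel_left _ ha₁pos
  rw [hM₁div] at hpart₁
  have hM₁M : M₁ ∣ MM m := ⟨a₁, by rw [hM₁]; ring⟩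
  have hcop₁' : a₁.Coprime M₁ := by
    apply Nat.Coprime.coprime_dvd_right _ hcop₁
    rw [← hM₁div]
    exact Nat.div_dvd_div ⟨M₁, hM₁⟩ hMG'
  by_cases hM₁1 : M₁ = 1
  · -- a single class: impossible
    exfalso
    rw [hM₁1, torSet_one, add_zero] at hpart₁
    rw [hM₁1, mul_one] at hM₁
    apply hA1 m n₁ τ₁ hm
    · rw [hM₁]; exact ha₁n
    · rw [hM₁]; exact hn₁
    · rw [hM₁]; exact hτ₁
    · rw [← hpart₁]; exact hT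
  -- second class
  obtain ⟨p₂, hp₂, hp₂M₁⟩ := Nat.exists_prime_and_dvd hM₁1
  have hp₂M : p₂ ∣ MM m := hp₂M₁.trans hM₁M
  obtain ⟨y₂, hy₂⟩ := cauchy p₂ hp₂ hp₂M
  have hy₂p : (orderOf y₂).Prime := by rw [hy₂]; exact hp₂
  have hy₂M : orderOf y₂ ∣ MM m := by rw [hy₂]; exact hp₂M
  obtain ⟨ha₂M, ha₂, ha₂n, hn₂, hτ₂, hcyc₂, hself₂, hcop₂⟩ :=
    classData hTI1 hTI2 hTI3 hTI4 hCLS (MM m) hAb hDvd hSyl hSix y₂ hy₂p hy₂M
  have hc12 := hCop G (MM m) hAb hDvd hSyl hTI1 y₁ y₂ hy₁p hy₁M hy₂p hy₂M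
    (by rw [hy₂, ← ha₁def]; exact not_dvd_of_coprime hp₂ hcop₁' hp₂M₁)
  rw [hG] at hτ₂
  obtain ⟨a₂, ha₂def⟩ : ∃ a₂ : ℕ, a₂ = Nat.card ↥(Subgroup.centralizer ({y₂} : Set G)) :=
    ⟨_, rfl⟩
  obtain ⟨n₂, hn₂def⟩ : ∃ n₂ : ℕ, n₂ = Nat.card ↥(Subgroup.normalizer
      ((Subgroup.centralizer ({y₂} : Set G) : Subgroup G) : Set G)) := ⟨_, rfl⟩
  obtain ⟨τ₂, hτ₂def⟩ : ∃ τ₂ : ℕ, τ₂ =
      (ConjSet (Subgroup.centralizer ({y₂} : Set G)) 1).ncard := ⟨_, rfl⟩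
  rw [← ha₁def, ← ha₂def] at hc12
  have ha₂M₁ : a₂ ∣ M₁ := by
    have h : a₂ ∣ a₁ * M₁ := by rw [← hM₁, ha₂def]; exact ha₂M
    exact (Nat.Coprime.dvd_mul_left hc12.symm).mp h
  have hpart₂ := hPart G (MM m) hAb hDvd hSyl hTI1 hTI4 hMG' y₂ hy₂p hy₂M M₁ hM₁M
    (by rw [← ha₂def]; exact ha₂M₁)
  rw [← ha₂def] at ha₂M ha₂ ha₂n hn₂ hτ₂ hcop₂ hpart₂
  rw [← hn₂def] at ha₂n hn₂ hτ₂
  rw [← hτ₂def] at hτ₂ hpart₂
  obtain ⟨M₂, hM₂⟩ : ∃ M₂ : ℕ, M₁ = a₂ * M₂ := ha₂M₁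
  have ha₂pos : 0 < a₂ := by omega
  have hM₂div : M₁ / a₂ = M₂ := by rw [hM₂]; exact Nat.mul_div_cancel_left _ ha₂pos
  rw [hM₂div] at hpart₂
  have hM₂M₁ : M₂ ∣ M₁ := ⟨a₂, by rw [hM₂]; ring⟩
  have hM₂M : M₂ ∣ MM m := hM₂M₁.trans hM₁M
  have hcop₂' : a₂.Coprime M₂ := by
    apply Nat.Coprime.coprime_dvd_right _ hcop₂
    rw [← hM₂div]
    exact Nat.div_dvd_div ⟨M₂, hM₂⟩ (hM₁M.trans hMG')
  by_cases hM₂1 : M₂ = 1
  · -- exactly two classes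
    rw [hM₂1, torSet_one, add_zero] at hpart₂
    rw [hM₂1, mul_one] at hM₂
    have hprod : a₁ * a₂ = MM m := by rw [hM₁, hM₂]
    have hsum : 3 * (τ₁ + τ₂) = TT m := by rw [← hpart₂, ← hpart₁]; exact hT
    obtain ⟨e₁, e₂, h | h⟩ := hA2 m a₁ a₂ n₁ n₂ τ₁ τ₂ hm hprod ha₁ ha₂ ha₁n hn₁ ha₂n hn₂
      hτ₁ hτ₂ hsum
    · refine ⟨Subgroup.centralizer ({y₁} : Set G), Subgroup.centralizer ({y₂} : Set G),
        ⟨hcyc₁, ?_, ?_, hself₁⟩, ⟨hcyc₂, ?_, ?_, hself₂⟩⟩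
      · rw [← ha₁def]; exact h.1
      · rw [← hn₁def, e₁, h.1]
      · rw [← ha₂def]; exact h.2
      · rw [← hn₂def, e₂, h.2]
    · refine ⟨Subgroup.centralizer ({y₂} : Set G), Subgroup.centralizer ({y₁} : Set G),
        ⟨hcyc₂, ?_, ?_, hself₂⟩, ⟨hcyc₁, ?_, ?_, hself₁⟩⟩
      · rw [← ha₂def]; exact h.2
      · rw [← hn₂def, e₂, h.2]
      · rw [← ha₁def]; exact h.1
      · rw [← hn₁def, e₁, h.1]
  -- a third class: impossible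
  exfalso
  obtain ⟨p₃, hp₃, hp₃M₂⟩ := Nat.exists_prime_and_dvd hM₂1
  have hp₃M : p₃ ∣ MM m := hp₃M₂.trans hM₂M
  obtain ⟨y₃, hy₃⟩ := cauchy p₃ hp₃ hp₃M
  have hy₃p : (orderOf y₃).Prime := by rw [hy₃]; exact hp₃
  have hy₃M : orderOf y₃ ∣ MM m := by rw [hy₃]; exact hp₃M
  obtain ⟨ha₃M, ha₃, ha₃n, hn₃, hτ₃, -, -, -⟩ :=
    classData hTI1 hTI2 hTI3 hTI4 hCLS (MM m) hAb hDvd hSyl hSix y₃ hy₃p hy₃M
  have hc13 := hCop G (MM m) hAb hDvd hSyl hTI1 y₁ y₃ hy₁p hy₁M hy₃p hy₃M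
    (by rw [hy₃, ← ha₁def]; exact not_dvd_of_coprime hp₃ hcop₁' (hp₃M₂.trans hM₂M₁))
  have hc23 := hCop G (MM m) hAb hDvd hSyl hTI1 y₂ y₃ hy₂p hy₂M hy₃p hy₃M
    (by rw [hy₃, ← ha₂def]; exact not_dvd_of_coprime hp₃ hcop₂' hp₃M₂)
  rw [hG] at hτ₃
  obtain ⟨a₃, ha₃def⟩ : ∃ a₃ : ℕ, a₃ = Nat.card ↥(Subgroup.centralizer ({y₃} : Set G)) :=
    ⟨_, rfl⟩
  rw [← ha₁def, ← ha₃def] at hc13
  rw [← ha₂def, ← ha₃def] at hc23
  have ha₃M₁ : a₃ ∣ M₁ := by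
    have h : a₃ ∣ a₁ * M₁ := by rw [← hM₁, ha₃def]; exact ha₃M
    exact (Nat.Coprime.dvd_mul_left hc13.symm).mp h
  have ha₃M₂ : a₃ ∣ M₂ := by
    have h : a₃ ∣ a₂ * M₂ := by rw [← hM₂]; exact ha₃M₁
    exact (Nat.Coprime.dvd_mul_left hc23.symm).mp h
  have hpart₃ := hPart G (MM m) hAb hDvd hSyl hTI1 hTI4 hMG' y₃ hy₃p hy₃M M₂ hM₂M
    (by rw [← ha₃def]; exact ha₃M₂)
  rw [← ha₃def] at ha₃M ha₃ ha₃n hn₃ hτ₃
  apply hA3 m a₁ a₂ a₃ n₁ n₂ _ τ₁ τ₂ _ (TorSet G (MM m)).ncard hm ⟨M₁, hM₁⟩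
    (Dvd.dvd.trans (Dvd.intro M₂ hM₂.symm) hM₁M) ha₃M ha₁ ha₂ ha₃ ha₁n hn₁ ha₂n hn₂ ha₃n hn₃ hτ₁ hτ₂ hτ₃ _ hT
  rw [hpart₁, hpart₂, hpart₃]
  omega

/-- The piece S8-DIO, verbatim. -/
example : Cfsg.Agent.H45.S8.StDio.{u} := dio

end Cfsg.Agent.H91.S8
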