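import Mathlib

/-!
# The integrality condition for triangle-free strongly regular graphs

If the adjacency matrix `A` of a regular graph of valency `κ` satisfies
`A² = (κ - μ) I - μ A + μ J` (no triangles, `μ` common neighbours for non-adjacent vertices), then
`μ² + 4 (κ - μ)` is a perfect square or `κ + μ = 3`.
-/

set_option autoImplicit false

namespace Cfsg.Agent.H91

open Matrix

theorem srg_spectral {ι : Type*} [Fintype ι] [DecidableEq ι] [Nonempty ι]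
    (A : Matrix ι ι ℝ) (hA : A.IsHermitian) (κ μ : ℕ) (hμ : 0 < μ) (hμκ : μ < κ)
    (htr : A.trace = 0)
    (hA2 : A * A = ((κ : ℝ) - μ) • (1 : Matrix ι ι ℝ) - (μ : ℝ) • A
      + (μ : ℝ) • Matrix.of (fun _ _ : ι => (1 : ℝ)))
    (hAJ : A * Matrix.of (fun _ _ : ι => (1 : ℝ))
      = (κ : ℝ) • Matrix.of (fun _ _ : ι => (1 : ℝ))) :
    IsSquare (μ ^ 2 + 4 * (κ - μ)) ∨ κ + μ = 3 := by
  classical
  by_contra hcon
  push Not at hcon
  obtain ⟨hnsq, hne3⟩ := hcon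
  obtain ⟨J, hJ⟩ : ∃ J : Matrix ι ι ℝ, J = Matrix.of (fun _ _ : ι => (1 : ℝ)) := ⟨_, rfl⟩
  rw [← hJ] at hA2 hAJ
  obtain ⟨n, hn⟩ : ∃ n : ℝ, n = (Fintype.card ι : ℝ) := ⟨_, rfl⟩
  have hK : (μ : ℝ) < κ := by exact_mod_cast hμκ
  have hM : (0 : ℝ) < μ := by exact_mod_cast hμ
  have hM1 : (1 : ℝ) ≤ μ := by exact_mod_cast hμ
  have hJJ : J * J = n • J := by
    rw [hJ, hn]; ext i j
    simp [Matrix.mul_apply]
  have htrJ : J.trace = n := by rw [hJ, hn]; simp [Matrix.trace]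
  have htr1 : (1 : Matrix ι ι ℝ).trace = n := by rw [hn]; simp
  have hnrel : n * μ = μ + μ * κ + κ * (κ - 1) := by
    have h1 : A * A * J = (κ : ℝ) • ((κ : ℝ) • J) := by
      rw [mul_assoc, hAJ, Matrix.mul_smul, hAJ]
    rw [hA2] at h1
    rw [add_mul, sub_mul, smul_mul_assoc, one_mul, smul_mul_assoc, hAJ, smul_mul_assoc, hJJ] at h1
    obtain ⟨i₀⟩ := ‹Nonempty ι›
    have h2 := congrFun (congrFun h1 i₀) i₀
    simp [hJ] at h2
    linarith
  -- diagonalisation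
  obtain ⟨e, he⟩ : ∃ e : ι → ℝ, e = hA.eigenvalues := ⟨_, rfl⟩
  obtain ⟨φ, hφdef⟩ : ∃ φ, φ = Unitary.conjStarAlgAut ℝ (Matrix ι ι ℝ)
      (star hA.eigenvectorUnitary) := ⟨_, rfl⟩
  have hDg : φ A = diagonal e := by
    rw [hφdef, hA.conjStarAlgAut_star_eigenvectorUnitary, he]
    congr 1
  have htrφ : ∀ X : Matrix ι ι ℝ, (φ X).trace = X.trace := by
    intro X
    rw [hφdef, Unitary.conjStarAlgAut_apply, Matrix.trace_mul_cycle, Unitary.coe_star_mul_self,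
      one_mul]
  have hsum1 : ∑ i, e i = 0 := by
    have h1 := htrφ A
    rw [hDg, Matrix.trace_diagonal, htr] at h1
    exact h1
  have hsum2 : ∑ i, e i * e i = κ * n := by
    have h1 := htrφ (A * A)
    rw [map_mul, hDg, Matrix.diagonal_mul_diagonal, Matrix.trace_diagonal] at h1
    rw [h1, hA2, Matrix.trace_add, Matrix.trace_sub, Matrix.trace_smul, Matrix.trace_smul,
      Matrix.trace_smul, htr1, htr, htrJ]
    simp only [smul_eq_mul]; ring
  have hpt : ∀ i, (e i - κ) * (e i * e i + μ * e i - (κ - μ)) = 0 := by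
    intro i
    have h1 := congrArg φ hA2
    have h2 := congrArg φ hAJ
    rw [map_mul, hDg] at h1 h2
    simp only [map_add, map_sub, map_smul, map_one, hDg] at h1 h2
    have h1' := congrFun (congrFun h1 i) i
    have h2' := congrFun (congrFun h2 i) i
    simp [Matrix.diagonal_mul] at h1' h2'
    rcases h2' with h | h
    · rw [h, sub_self, zero_mul]
    · rw [h, mul_zero, add_zero] at h1'
      have h3 : e i * e i + μ * e i - (κ - μ) = 0 := by linarith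
      rw [h3, mul_zero]
  -- the two irrational eigenvalues
  obtain ⟨s, hs⟩ : ∃ s : ℝ, s = Real.sqrt ((μ : ℝ) ^ 2 + 4 * ((κ : ℝ) - μ)) := ⟨_, rfl⟩
  have hΔpos : (0 : ℝ) < (μ : ℝ) ^ 2 + 4 * ((κ : ℝ) - μ) := by nlinarith
  have hs2 : s * s = (μ : ℝ) ^ 2 + 4 * ((κ : ℝ) - μ) := by
    rw [hs]; exact Real.mul_self_sqrt hΔpos.le
  have hspos : 0 < s := by rw [hs]; exact Real.sqrt_pos.mpr hΔpos
  have hirr : Irrational s := by
    have h1 : ((μ : ℝ) ^ 2 + 4 * ((κ : ℝ) - μ)) = ((μ ^ 2 + 4 * (κ - μ) : ℕ) : ℝ) := by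
      push_cast [Nat.cast_sub hμκ.le]; ring
    rw [hs, h1]
    exact irrational_sqrt_natCast_iff.mpr hnsq
  obtain ⟨θ, hθ⟩ : ∃ θ : ℝ, θ = (-(μ : ℝ) + s) / 2 := ⟨_, rfl⟩
  obtain ⟨τ, hτ⟩ : ∃ τ : ℝ, τ = (-(μ : ℝ) - s) / 2 := ⟨_, rfl⟩
  have hp : ∀ t : ℝ, t * t + μ * t - (κ - μ) = (t - θ) * (t - τ) := by
    intro t; rw [hθ, hτ]
    linear_combination (1 / 4 : ℝ) * hs2
  have hpκ : (0 : ℝ) < ((κ : ℝ) - θ) * ((κ : ℝ) - τ) := by
    rw [← hp]; nlinarith
  have hκθ : (κ : ℝ) ≠ θ := by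
    intro h; rw [h, sub_self, zero_mul] at hpκ; exact lt_irrefl _ hpκ
  have hκτ : (κ : ℝ) ≠ τ := by
    intro h; rw [h, sub_self, mul_zero] at hpκ; exact lt_irrefl _ hpκ
  have hθτ : θ ≠ τ := by
    intro h; rw [hθ, hτ] at h; linarith
  have hm : ∀ i, e i = κ ∨ e i = θ ∨ e i = τ := by
    intro i
    have h1 := hpt i
    rw [hp] at h1
    rcases mul_eq_zero.mp h1 with h | h
    · left; linarith
    · rcases mul_eq_zero.mp h with h | h
      · right; left; linarith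
      · right; right; linarith
  have hdec1 : ∀ i, (1 : ℝ) = (if e i = (κ : ℝ) then 1 else 0) + (if e i = θ then 1 else 0)
      + (if e i = τ then 1 else 0) := by
    intro i
    rcases hm i with h | h | h
    · simp [h, hκθ, hκτ]
    · simp [h, hκθ.symm, hθτ]
    · simp [h, hκτ.symm, hθτ.symm]
  have hdec2 : ∀ i, e i = (κ : ℝ) * (if e i = (κ : ℝ) then 1 else 0)
      + θ * (if e i = θ then 1 else 0) + τ * (if e i = τ then 1 else 0) := by
    intro i
    rcases hm i with h | h | h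
    · simp [h, hκθ, hκτ]
    · simp [h, hκθ.symm, hθτ]
    · simp [h, hκτ.symm, hθτ.symm]
  obtain ⟨mN, hmN⟩ : ∃ mN : ℕ, mN = (Finset.univ.filter (fun i => e i = (κ : ℝ))).card := ⟨_, rfl⟩
  obtain ⟨fN, hfN⟩ : ∃ fN : ℕ, fN = (Finset.univ.filter (fun i => e i = θ)).card := ⟨_, rfl⟩
  obtain ⟨gN, hgN⟩ : ∃ gN : ℕ, gN = (Finset.univ.filter (fun i => e i = τ)).card := ⟨_, rfl⟩
  have hI1 : n = mN + fN + gN := by
    have h1 : ∑ _i : ι, (1 : ℝ) = ∑ i, ((if e i = (κ : ℝ) then (1 : ℝ) else 0)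
        + (if e i = θ then 1 else 0) + (if e i = τ then 1 else 0)) :=
      Finset.sum_congr rfl (fun i _ => hdec1 i)
    rw [Finset.sum_add_distrib, Finset.sum_add_distrib, Finset.sum_boole, Finset.sum_boole,
      Finset.sum_boole, ← hmN, ← hfN, ← hgN] at h1
    rw [hn, ← h1]; simp
  have hI2 : (0 : ℝ) = κ * mN + θ * fN + τ * gN := by
    have h1 : ∑ i, e i = ∑ i, ((κ : ℝ) * (if e i = (κ : ℝ) then (1 : ℝ) else 0)
        + θ * (if e i = θ then 1 else 0) + τ * (if e i = τ then 1 else 0)) :=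
      Finset.sum_congr rfl (fun i _ => hdec2 i)
    rw [Finset.sum_add_distrib, Finset.sum_add_distrib, ← Finset.mul_sum, ← Finset.mul_sum,
      ← Finset.mul_sum, Finset.sum_boole, Finset.sum_boole, Finset.sum_boole, ← hmN, ← hfN,
      ← hgN, hsum1] at h1
    exact h1
  have hI3 : (κ : ℝ) * n = κ * κ * mN + θ * θ * fN + τ * τ * gN := by
    have h1 : ∑ i, e i * e i = ∑ i, ((κ : ℝ) * κ * (if e i = (κ : ℝ) then (1 : ℝ) else 0)
        + θ * θ * (if e i = θ then 1 else 0) + τ * τ * (if e i = τ then 1 else 0)) := by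
      apply Finset.sum_congr rfl
      intro i _
      rcases hm i with h | h | h
      · simp [h, hκθ, hκτ]
      · simp [h, hκθ.symm, hθτ]
      · simp [h, hκτ.symm, hθτ.symm]
    rw [Finset.sum_add_distrib, Finset.sum_add_distrib, ← Finset.mul_sum, ← Finset.mul_sum,
      ← Finset.mul_sum, Finset.sum_boole, Finset.sum_boole, Finset.sum_boole, ← hmN, ← hfN,
      ← hgN, hsum2] at h1
    exact h1
  -- the eigenvalue `κ` is simple
  have hθ2 : θ * θ = -(μ : ℝ) * θ + (κ - μ) := by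
    have := hp θ; rw [sub_self, zero_mul] at this; linarith
  have hτ2 : τ * τ = -(μ : ℝ) * τ + (κ - μ) := by
    have := hp τ; rw [sub_self, mul_zero] at this; linarith
  have hpκ' : (0 : ℝ) < κ * κ + μ * κ - (κ - μ) := by rw [hp]; exact hpκ
  have hm1 : (mN : ℝ) = 1 := by
    have h1 : (mN : ℝ) * (κ * κ + μ * κ - (κ - μ)) = 1 * (κ * κ + μ * κ - (κ - μ)) := by
      rw [hθ2, hτ2] at hI3
      linear_combination (-1 : ℝ) * hI3 + (κ - μ : ℝ) * hI1 - (μ : ℝ) * hI2 + hnrel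
    exact mul_right_cancel₀ hpκ'.ne' h1
  -- the irrational eigenvalues have the same multiplicity
  have hfg : s * (((fN : ℤ) - (gN : ℤ) : ℤ) : ℝ) = ((μ * ((Fintype.card ι : ℤ) - 1) - 2 * κ : ℤ) : ℝ) := by
    push_cast
    rw [← hn]
    rw [hθ, hτ, hm1] at hI2
    rw [hm1] at hI1
    linear_combination (-2 : ℝ) * hI2 - (μ : ℝ) * hI1
  have hfgeq : (fN : ℤ) = gN := by
    by_contra hne
    have h1 : ((fN : ℤ) - (gN : ℤ)) ≠ 0 := sub_ne_zero.mpr hne
    exact (hirr.mul_intCast h1).ne_int _ hfg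
  rw [hfgeq, sub_self] at hfg
  push_cast at hfg
  rw [← hn, mul_zero] at hfg
  -- now `μ (n - 1) = 2 κ`
  apply hne3
  have hκpos : (0 : ℝ) < κ := lt_trans hM hK
  have h3 : (κ : ℝ) * ((κ : ℝ) + μ) = κ * 3 := by
    linear_combination (-1 : ℝ) * hnrel - hfg
  have h4 : ((κ : ℝ) + μ) = 3 := mul_left_cancel₀ hκpos.ne' h3
  exact_mod_cast h4

end Cfsg.Agent.H91
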