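import Mathlib
import Cfsg.Agent.H52.SrDefs

/-!
# SR-IND (piece of helper52's mini-project SR, for JZ = S2951/S2952)

Independence of the family `W`.
-/

set_option autoImplicit false
open Cfsg

namespace Cfsg.Agent.H91.Sr

universe u

/-- SR-IND. -/
theorem ind : Cfsg.Agent.H52.Sr.StInd.{u} := by
  intro X _ ι K W h1 h2
  intro i
  rw [disjoint_iff, eq_bot_iff, ← h2 i]
  apply le_inf inf_le_left
  refine inf_le_right.trans ?_
  exact iSup₂_le fun j hj => h1 j i hj

example : ∀ {X : Type u} [Group X] {ι : Type u} (K W : ι → Subgroup X),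
  (∀ i j, i ≠ j → W i ≤ Subgroup.centralizer (K j : Set X)) →
  (∀ i, W i ⊓ Subgroup.centralizer (K i : Set X) = ⊥) →
  iSupIndep W := ind

end Cfsg.Agent.H91.Sr
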