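import Mathlib
import Cfsg.Agent.H52.SrDefs

/-!
# SR-SUP (piece of helper52's mini-project SR, for JZ = S2951/S2952)

Simultaneous decomposition along a finite set of subgroups.
-/

set_option autoImplicit false
open Cfsg

namespace Cfsg.Agent.H91.Sr

universe u

/-- SR-SUP. -/
theorem sup : Cfsg.Agent.H52.Sr.StSup.{u} := by
  intro X _ V W s
  classical
  induction s using Finset.induction_on with
  | empty =>
    intro _ _ v hv
    exact ⟨v, hv, 1, Subgroup.one_mem _, (mul_one v).symm,
      fun K hK => absurd hK (Finset.notMem_empty K)⟩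
  | insert K0 s' hK0 ih =>
    intro hdec hcent v hv
    obtain ⟨c, hcV, u, hu, rfl, hc⟩ := ih (fun K hK => hdec K (Finset.mem_insert_of_mem hK))
      (fun K₁ h1 K₂ h2 => hcent K₁ (Finset.mem_insert_of_mem h1) K₂ (Finset.mem_insert_of_mem h2))
      v hv
    obtain ⟨c', hc'V, w, hw, rfl, hc'⟩ := hdec K0 (Finset.mem_insert_self K0 s') c hcV
    refine ⟨c', hc'V, w * u, ?_, by rw [mul_assoc], ?_⟩
    · apply Subgroup.mul_mem
      · exact (le_iSup₂ (f := fun K (_ : K ∈ insert K0 s') => W K) K0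
          (Finset.mem_insert_self K0 s')) hw
      · have h : (⨆ K ∈ s', W K) ≤ ⨆ K ∈ insert K0 s', W K := by
          apply iSup₂_le
          intro K hK
          exact le_iSup₂ (f := fun K (_ : K ∈ insert K0 s') => W K) K
            (Finset.mem_insert_of_mem hK)
        exact h hu
    · intro K hK
      rcases Finset.mem_insert.mp hK with rfl | hK'
      · exact hc'
      · have h1 : c' * w ∈ Subgroup.centralizer (K : Set X) := hc K hK'
        have h2 : w ∈ Subgroup.centralizer (K : Set X) :=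
          hcent K0 (Finset.mem_insert_self K0 s') K hK (by rintro rfl; exact hK0 hK') hw
        have h3 := Subgroup.mul_mem _ h1 (Subgroup.inv_mem _ h2)
        have e : c' * w * w⁻¹ = c' := by group
        rw [e] at h3
        exact h3

example : ∀ {X : Type u} [Group X] (V : Subgroup X) (W : Subgroup X → Subgroup X)
    (s : Finset (Subgroup X)),
  (∀ K ∈ s, ∀ v ∈ V, ∃ c ∈ V, ∃ w ∈ W K, v = c * w ∧ c ∈ Subgroup.centralizer (K : Set X)) →
  (∀ K₁ ∈ s, ∀ K₂ ∈ s, K₁ ≠ K₂ → W K₁ ≤ Subgroup.centralizer (K₂ : Set X)) →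
  ∀ v ∈ V, ∃ c ∈ V, ∃ w ∈ ⨆ K ∈ s, W K, v = c * w ∧
    ∀ K ∈ s, c ∈ Subgroup.centralizer (K : Set X) := sup

end Cfsg.Agent.H91.Sr
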