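import Cfsg.Agent.S2530
import Cfsg.Agent.H91.TTClass
import Cfsg.Agent.H91.TTRank3
import Cfsg.Agent.H91.WBlocks

/-!
# 3-transposition sets in which every `⟨D_d⟩` is a copy of `S₃`

If every `D_d` generates a copy of `S₃` and `O₃(C(d))` has order 3, then `⟨D⟩` is `S₅` (no two
different members have the same commuting partners; via the Coxeter presentation of `S₅`) or
`S₃ × S₃` (otherwise).
-/

set_option autoImplicit false
open Cfsg

namespace Cfsg.Agent.H91

universe u

/-! ### Facts about `Perm (Fin 3)` and `Perm (Fin 5)` -/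

theorem perm3_not_commute : ∀ σ τ : Equiv.Perm (Fin 3), σ * σ = 1 → τ * τ = 1 → σ ≠ 1 → τ ≠ 1 →
    σ ≠ τ → σ * τ ≠ τ * σ := by decide

theorem perm3_triple_aux : ∀ σ τ ω : Equiv.Perm (Fin 3), (σ * σ = 1 ∧ τ * τ = 1 ∧ ω * ω = 1 ∧
    σ ≠ 1 ∧ τ ≠ 1 ∧ ω ≠ 1 ∧ σ ≠ τ) → (ω = σ ∨ ω = τ ∨ ω = σ * τ * σ) := by decide

theorem perm3_triple (σ τ ω : Equiv.Perm (Fin 3)) (h1 : σ * σ = 1) (h2 : τ * τ = 1)
    (h3 : ω * ω = 1) (h4 : σ ≠ 1) (h5 : τ ≠ 1) (h6 : ω ≠ 1) (h7 : σ ≠ τ) :
    ω = σ ∨ ω = τ ∨ ω = σ * τ * σ :=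
  perm3_triple_aux σ τ ω ⟨h1, h2, h3, h4, h5, h6, h7⟩

theorem perm3_center : ∀ σ : Equiv.Perm (Fin 3), (∀ τ : Equiv.Perm (Fin 3), σ * τ = τ * σ) → σ = 1 := by
  decide

theorem perm3_exists_not_commute : ∃ σ τ : Equiv.Perm (Fin 3), σ * τ ≠ τ * σ := by decide

theorem fin5_exists_three : ∀ i j : Fin 5, ∃ k l m : Fin 5, k ≠ i ∧ k ≠ j ∧ l ≠ i ∧ l ≠ j ∧
    m ≠ i ∧ m ≠ j ∧ k ≠ l ∧ k ≠ m ∧ l ≠ m := by decide

theorem perm5_center (σ : Equiv.Perm (Fin 5)) (h : ∀ τ : Equiv.Perm (Fin 5), σ * τ = τ * σ) :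
    σ = 1 := by
  apply Equiv.ext
  intro i
  by_contra hne
  have hne' : σ i ≠ i := hne
  obtain ⟨k, hki, hkj⟩ : ∃ k : Fin 5, k ≠ i ∧ k ≠ σ i :=
    (by decide : ∀ i j : Fin 5, ∃ k : Fin 5, k ≠ i ∧ k ≠ j) i (σ i)
  have h1 := congrArg (fun f : Equiv.Perm (Fin 5) => f i) (h (Equiv.swap i k))
  simp only [Equiv.Perm.mul_apply, Equiv.swap_apply_left] at h1
  rw [Equiv.swap_apply_of_ne_of_ne hne' (Ne.symm hkj)] at h1
  exact hki (σ.injective h1)

/-- elements satisfying the Coxeter relations of type `A₄` are the images of the adjacent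
transpositions under a homomorphism from `Perm (Fin 5)` -/
theorem exists_perm_five_hom {G : Type*} [Group G] {s₁ s₂ s₃ s₄ : G}
    (h1 : s₁ * s₁ = 1) (h2 : s₂ * s₂ = 1) (h3 : s₃ * s₃ = 1) (h4 : s₄ * s₄ = 1)
    (b12 : (s₁ * s₂) ^ 3 = 1) (b23 : (s₂ * s₃) ^ 3 = 1) (b34 : (s₃ * s₄) ^ 3 = 1)
    (c13 : Commute s₁ s₃) (c14 : Commute s₁ s₄) (c24 : Commute s₂ s₄) :
    ∃ φ : Equiv.Perm (Fin 5) →* G, φ (Equiv.swap 0 1) = s₁ ∧ φ (Equiv.swap 1 2) = s₂ ∧
      φ (Equiv.swap 2 3) = s₃ ∧ φ (Equiv.swap 3 4) = s₄ := by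
  obtain ⟨cs, hcs⟩ := Cfsg.Agent.S2530.result 4
  have i1 : s₁⁻¹ = s₁ := inv_eq_of_mul_eq_one_right h1
  have i2 : s₂⁻¹ = s₂ := inv_eq_of_mul_eq_one_right h2
  have i3 : s₃⁻¹ = s₃ := inv_eq_of_mul_eq_one_right h3
  have i4 : s₄⁻¹ = s₄ := inv_eq_of_mul_eq_one_right h4
  have b21 : (s₂ * s₁) ^ 3 = 1 := by
    have e : s₂ * s₁ = (s₁ * s₂)⁻¹ := by rw [mul_inv_rev, i1, i2]
    rw [e, inv_pow, b12, inv_one]
  have b32 : (s₃ * s₂) ^ 3 = 1 := by
    have e : s₃ * s₂ = (s₂ * s₃)⁻¹ := by rw [mul_inv_rev, i2, i3]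
    rw [e, inv_pow, b23, inv_one]
  have b43 : (s₄ * s₃) ^ 3 = 1 := by
    have e : s₄ * s₃ = (s₃ * s₄)⁻¹ := by rw [mul_inv_rev, i3, i4]
    rw [e, inv_pow, b34, inv_one]
  have sq : ∀ {x y : G}, x * x = 1 → y * y = 1 → Commute x y → (x * y) ^ 2 = 1 := by
    intro x y hx hy hc
    rw [hc.mul_pow, pow_two, pow_two, hx, hy, one_mul]
  have hlift : CoxeterMatrix.IsLiftable (CoxeterMatrix.A 4) ![s₁, s₂, s₃, s₄] := by
    intro i j
    show (![s₁, s₂, s₃, s₄] i * ![s₁, s₂, s₃, s₄] j) ^ (CoxeterMatrix.A 4 i j) = 1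
    rw [Cfsg.Agent.S2530.A_apply]
    fin_cases i <;> fin_cases j <;> simp <;>
      first
        | assumption
        | exact sq h1 h3 c13
        | exact sq h1 h4 c14
        | exact sq h2 h4 c24
        | exact sq h3 h1 c13.symm
        | exact sq h4 h1 c14.symm
        | exact sq h4 h2 c24.symm
  refine ⟨cs.lift ⟨_, hlift⟩, ?_, ?_, ?_, ?_⟩
  · have e := cs.lift_apply_simple hlift 0
    rw [hcs] at e
    exact e
  · have e := cs.lift_apply_simple hlift 1
    rw [hcs] at e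
    exact e
  · have e := cs.lift_apply_simple hlift 2
    rw [hcs] at e
    exact e
  · have e := cs.lift_apply_simple hlift 3
    rw [hcs] at e
    exact e

/-- a homomorphism from `Perm (Fin 5)` separating two adjacent transpositions is injective -/
theorem perm_five_hom_injective {G : Type*} [Group G] (φ : Equiv.Perm (Fin 5) →* G)
    (h : φ (Equiv.swap 0 1) ≠ φ (Equiv.swap 1 2)) : Function.Injective φ := by
  rw [← MonoidHom.ker_eq_bot_iff]
  have hsimple : IsSimpleGroup (alternatingGroup (Fin 5)) := alternatingGroup.isSimpleGroup (by simp)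
  have hn : (φ.ker.subgroupOf (alternatingGroup (Fin 5))).Normal := Subgroup.Normal.subgroupOf
    (MonoidHom.normal_ker φ) _
  rcases hn.eq_bot_or_eq_top with h1 | h1
  · -- the kernel meets the alternating group trivially, hence is central
    rw [eq_bot_iff]
    intro σ hσ
    have hc : ∀ τ : Equiv.Perm (Fin 5), σ * τ = τ * σ := by
      intro τ
      have hk : σ * τ * σ⁻¹ * τ⁻¹ ∈ φ.ker := by
        rw [MonoidHom.mem_ker] at hσ ⊢
        simp [hσ]
      have ha : σ * τ * σ⁻¹ * τ⁻¹ ∈ alternatingGroup (Fin 5) := by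
        rw [Equiv.Perm.mem_alternatingGroup, map_mul, map_mul, map_mul, map_inv, map_inv]
        have hab : ∀ a b : ℤˣ, a * b * a⁻¹ * b⁻¹ = 1 := fun a b => by
          rw [mul_comm a b, mul_inv_cancel_right, mul_inv_cancel]
        exact hab _ _
      have h2 : (⟨σ * τ * σ⁻¹ * τ⁻¹, ha⟩ : alternatingGroup (Fin 5)) ∈
          φ.ker.subgroupOf (alternatingGroup (Fin 5)) := by
        rw [Subgroup.mem_subgroupOf]; exact hk
      rw [h1, Subgroup.mem_bot] at h2
      have h3 : σ * τ * σ⁻¹ * τ⁻¹ = 1 := congrArg Subtype.val h2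
      calc σ * τ = (σ * τ * σ⁻¹ * τ⁻¹) * (τ * σ) := by group
        _ = τ * σ := by rw [h3, one_mul]
    rw [Subgroup.mem_bot]
    exact perm5_center σ hc
  · exfalso
    apply h
    have ha : Equiv.swap (0 : Fin 5) 1 * Equiv.swap (1 : Fin 5) 2 ∈ alternatingGroup (Fin 5) := by
      rw [Equiv.Perm.mem_alternatingGroup]
      decide
    have h2 : (⟨_, ha⟩ : alternatingGroup (Fin 5)) ∈
        φ.ker.subgroupOf (alternatingGroup (Fin 5)) := by rw [h1]; trivial
    rw [Subgroup.mem_subgroupOf, MonoidHom.mem_ker] at h2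
    have h3 : φ (Equiv.swap (0 : Fin 5) 1) * φ (Equiv.swap (1 : Fin 5) 2) = 1 := by
      rw [← map_mul]; exact h2
    have h4 : φ (Equiv.swap (1 : Fin 5) 2) * φ (Equiv.swap (1 : Fin 5) 2) = 1 := by
      rw [← map_mul, Equiv.swap_mul_self, map_one]
    exact mul_right_cancel (h3.trans h4.symm)

section local_s3

variable {G : Type u} [Group G]

/-! ### Local structure: every `⟨D_d⟩` is a copy of `S₃` -/

theorem dd_perm_props {D : Set G} (hD : IsThreeTranspositionSet D) {d : G}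
    (φ : ↥(Subgroup.closure (Dd D d)) ≃* Equiv.Perm (Fin 3)) {y : G} (hy : y ∈ Dd D d) :
    φ ⟨y, Subgroup.subset_closure hy⟩ * φ ⟨y, Subgroup.subset_closure hy⟩ = 1 ∧
    φ ⟨y, Subgroup.subset_closure hy⟩ ≠ 1 := by
  have hy2 := sq_one (hD.1 y hy.1)
  constructor
  · rw [← map_mul]
    have e : (⟨y, Subgroup.subset_closure hy⟩ : ↥(Subgroup.closure (Dd D d))) *
        ⟨y, Subgroup.subset_closure hy⟩ = 1 := Subtype.ext hy2
    rw [e, map_one]
  · intro h
    have e : (⟨y, Subgroup.subset_closure hy⟩ : ↥(Subgroup.closure (Dd D d))) = 1 :=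
      φ.injective (by rw [h, map_one])
    have e' : y = 1 := congrArg Subtype.val e
    have h2 := hD.1 y hy.1
    rw [e', orderOf_one] at h2
    norm_num at h2

/-- different members of `D_d` do not commute -/
theorem Dd_not_commute_of_s3 {D : Set G} (hD : IsThreeTranspositionSet D) {d : G}
    (hS : Nonempty (↥(Subgroup.closure (Dd D d)) ≃* Equiv.Perm (Fin 3)))
    {y y' : G} (hy : y ∈ Dd D d) (hy' : y' ∈ Dd D d) (hne : y ≠ y') : ¬ Commute y y' := by
  obtain ⟨φ⟩ := hS
  intro hc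
  obtain ⟨e1, n1⟩ := dd_perm_props hD φ hy
  obtain ⟨e2, n2⟩ := dd_perm_props hD φ hy'
  have n3 : φ ⟨y, Subgroup.subset_closure hy⟩ ≠ φ ⟨y', Subgroup.subset_closure hy'⟩ :=
    fun h => hne (congrArg Subtype.val (φ.injective h))
  apply perm3_not_commute _ _ e1 e2 n1 n2 n3
  rw [← map_mul, ← map_mul]
  congr 1
  exact Subtype.ext hc.eq

/-- `D_d` consists of two different members and the conjugate of one by the other -/
theorem Dd_triple_of_s3 {D : Set G} (hD : IsThreeTranspositionSet D) {d : G}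
    (hS : Nonempty (↥(Subgroup.closure (Dd D d)) ≃* Equiv.Perm (Fin 3)))
    {y y' w : G} (hy : y ∈ Dd D d) (hy' : y' ∈ Dd D d) (hw : w ∈ Dd D d) (hne : y ≠ y') :
    w = y ∨ w = y' ∨ w = y * y' * y := by
  obtain ⟨φ⟩ := hS
  obtain ⟨e1, n1⟩ := dd_perm_props hD φ hy
  obtain ⟨e2, n2⟩ := dd_perm_props hD φ hy'
  obtain ⟨e3, n3⟩ := dd_perm_props hD φ hw
  have n12 : φ ⟨y, Subgroup.subset_closure hy⟩ ≠ φ ⟨y', Subgroup.subset_closure hy'⟩ :=
    fun h => hne (congrArg Subtype.val (φ.injective h))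
  rcases perm3_triple _ _ _ e1 e2 e3 n1 n2 n3 n12 with h | h | h
  · left; exact congrArg Subtype.val (φ.injective h)
  · right; left; exact congrArg Subtype.val (φ.injective h)
  · right; right
    rw [← map_mul, ← map_mul] at h
    exact congrArg Subtype.val (φ.injective h)

/-- `D_d` has two different members -/
theorem Dd_exists_ne_of_s3 {D : Set G} {d : G}
    (hS : Nonempty (↥(Subgroup.closure (Dd D d)) ≃* Equiv.Perm (Fin 3))) :
    ∃ y ∈ Dd D d, ∃ y' ∈ Dd D d, y ≠ y' := by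
  by_contra hcon
  push Not at hcon
  obtain ⟨φ⟩ := hS
  obtain ⟨σ, τ, hστ⟩ := perm3_exists_not_commute
  have hcomm := closure_commute (S := Dd D d)
    (fun x hx y hy => by rw [hcon x hx y hy])
  apply hστ
  have h1 := hcomm (φ.symm σ : G) (φ.symm σ).2 (φ.symm τ : G) (φ.symm τ).2
  have h2 : φ.symm σ * φ.symm τ = φ.symm τ * φ.symm σ := Subtype.ext h1.eq
  have h3 := congrArg φ h2
  simpa using h3

/-- `D_d` has a member different from a given element -/
theorem Dd_exists_ne_of_s3' {D : Set G} {d : G}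
    (hS : Nonempty (↥(Subgroup.closure (Dd D d)) ≃* Equiv.Perm (Fin 3))) (e : G) :
    ∃ y ∈ Dd D d, y ≠ e := by
  obtain ⟨y, hy, y', hy', hne⟩ := Dd_exists_ne_of_s3 hS
  by_cases h : y = e
  · exact ⟨y', hy', fun h' => hne (h.trans h'.symm)⟩
  · exact ⟨y, hy, h⟩

theorem Dd_symm {D : Set G} {d y : G} (hd : d ∈ D) (hy : y ∈ Dd D d) : d ∈ Dd D y :=
  ⟨hd, hy.2.1.symm, hy.2.2.symm⟩

theorem Dd_conj_self {D : Set G} (hD : IsThreeTranspositionSet D)
    (hconj : ∀ g : G, ∀ d ∈ D, g * d * g⁻¹ ∈ D) {d y y' : G} (hy : y ∈ Dd D d)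
    (hy' : y' ∈ Dd D d) : y * y' * y ∈ Dd D d := by
  have hy2 := sq_one (hD.1 y hy.1)
  have h1 := Dd_conj_mem hconj y hy'
  have e1 : y * d * y⁻¹ = d := by rw [← hy.2.2.eq, mul_inv_cancel_right]
  rw [e1, inv_self hy2] at h1
  exact h1

/-- two members with two common commuting partners have the same commuting partners -/
theorem Dd_eq_of_two {D : Set G} (hD : IsThreeTranspositionSet D)
    (hconj : ∀ g : G, ∀ d ∈ D, g * d * g⁻¹ ∈ D)
    (hS : ∀ d ∈ D, Nonempty (↥(Subgroup.closure (Dd D d)) ≃* Equiv.Perm (Fin 3)))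
    {x x' u v : G} (hx : x ∈ D) (hx' : x' ∈ D) (hu : u ∈ Dd D x) (hv : v ∈ Dd D x)
    (hu' : u ∈ Dd D x') (hv' : v ∈ Dd D x') (huv : u ≠ v) : Dd D x = Dd D x' := by
  ext w
  constructor
  · intro hw
    rcases Dd_triple_of_s3 hD (hS x hx) hu hv hw huv with rfl | rfl | rfl
    · exact hu'
    · exact hv'
    · exact Dd_conj_self hD hconj hu' hv'
  · intro hw
    rcases Dd_triple_of_s3 hD (hS x' hx') hu' hv' hw huv with rfl | rfl | rfl
    · exact hu
    · exact hv
    · exact Dd_conj_self hD hconj hu hv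

/-! ### Two word lemmas -/

/-- a member `z` not commuting with either of two commuting members `p`, `q` commutes with its
conjugate under `p * q` -/
theorem conj_pair_mem_Dd {D : Set G} (hD : IsThreeTranspositionSet D)
    (hconj : ∀ g : G, ∀ d ∈ D, g * d * g⁻¹ ∈ D) {p q z : G} (hp : p ∈ D) (hq : q ∈ D)
    (hz : z ∈ D) (hpq : Commute p q) (hne : p ≠ q) (hzp : ¬ Commute z p) (hzq : ¬ Commute z q) :
    (p * q) * z * (p * q)⁻¹ ∈ Dd D z := by
  have hp2 := sq_one (hD.1 p hp)
  have hq2 := sq_one (hD.1 q hq)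
  have hz2 := sq_one (hD.1 z hz)
  have bzp : z * p * z = p * z * p := (commute_or_braid hD hz hp).resolve_left hzp
  have bzq : z * q * z = q * z * q := (commute_or_braid hD hz hq).resolve_left hzq
  have hinv : (p * q)⁻¹ = q * p := by rw [mul_inv_rev, inv_self hp2, inv_self hq2]
  refine ⟨hconj _ z hz, ?_, ?_⟩
  · rw [hinv]
    intro h
    apply hne
    have h1 : q * z * q = p * z * p := by
      calc q * z * q = (p * p) * q * z * q * (p * p) := by rw [hp2]; group
        _ = p * (p * q * z * (q * p)) * p := by group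
        _ = p * z * p := by rw [h]
    have h2 : z * q * z = z * p * z := by rw [bzq, bzp, h1]
    exact (mul_left_cancel (mul_right_cancel h2)).symm
  · rw [hinv]
    show z * (p * q * z * (q * p)) = (p * q * z * (q * p)) * z
    symm
    calc (p * q * z * (q * p)) * z = p * (q * z * q) * p * z := by group
      _ = p * (z * q * z) * p * z := by rw [bzq]
      _ = p * z * q * (z * p * z) := by group
      _ = p * z * q * (p * z * p) := by rw [bzp]
      _ = p * z * (q * p) * z * p := by group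
      _ = p * z * (p * q) * z * p := by rw [hpq.eq]
      _ = (p * z * p) * q * z * p := by group
      _ = (z * p * z) * q * z * p := by rw [bzp]
      _ = z * p * (z * q * z) * p := by group
      _ = z * p * (q * z * q) * p := by rw [bzq]
      _ = z * (p * q * z * (q * p)) := by group

/-- a member commuting with the product of two non-commuting members commutes with them -/
theorem commute_of_commute_rotation {D : Set G} (hD : IsThreeTranspositionSet D) {a b q : G}
    (ha : a ∈ D) (hb : b ∈ D) (hq : q ∈ D) (hab : ¬ Commute a b) (hc : Commute q (b * a)) :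
    Commute q a := by
  by_contra hqa
  have ha2 := sq_one (hD.1 a ha)
  have hb2 := sq_one (hD.1 b hb)
  have hq2 := sq_one (hD.1 q hq)
  have hbr : q * a * q = a * q * a := (commute_or_braid hD hq ha).resolve_left hqa
  have hx3 : (q * a) * (q * a) * (q * a) = 1 := by
    calc (q * a) * (q * a) * (q * a) = (q * a * q) * a * q * a := by group
      _ = (a * q * a) * a * q * a := by rw [hbr]
      _ = a * q * (a * a) * q * a := by group
      _ = a * (q * q) * a := by rw [ha2]; group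
      _ = 1 := by rw [hq2, mul_one, ha2]
  have hxinv : (q * a)⁻¹ = a * q := by rw [mul_inv_rev, inv_self ha2, inv_self hq2]
  have hc' : Commute q (a * b) := by
    have h1 := hc.inv_right
    rwa [mul_inv_rev, inv_self ha2, inv_self hb2] at h1
  have h1 : (q * a) * (b * a) * (q * a)⁻¹ = a * b := by
    rw [hxinv]
    calc (q * a) * (b * a) * (a * q) = q * (a * b) * (a * a) * q := by group
      _ = (q * (a * b)) * q := by rw [ha2]; group
      _ = (a * b * q) * q := by rw [hc'.eq]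
      _ = a * b * (q * q) := by group
      _ = a * b := by rw [hq2, mul_one]
  have h2 : (q * a) * (a * b) * (q * a)⁻¹ = b * a := by
    rw [hxinv]
    calc (q * a) * (a * b) * (a * q) = q * (a * a) * (b * a) * q := by group
      _ = (q * (b * a)) * q := by rw [ha2]; group
      _ = (b * a * q) * q := by rw [hc.eq]
      _ = b * a * (q * q) := by group
      _ = b * a := by rw [hq2, mul_one]
  have h3 : ((q * a) * (q * a) * (q * a)) * (b * a) * ((q * a) * (q * a) * (q * a))⁻¹ = a * b := by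
    calc ((q * a) * (q * a) * (q * a)) * (b * a) * ((q * a) * (q * a) * (q * a))⁻¹
        = (q * a) * ((q * a) * ((q * a) * (b * a) * (q * a)⁻¹) * (q * a)⁻¹) * (q * a)⁻¹ := by
          group
      _ = a * b := by rw [h1, h2, h1]
  rw [hx3] at h3
  apply hab
  have h4 : b * a = a * b := by simpa using h3
  exact h4.symm

/-! ### The Petersen case -/

/-- **Case P**: if members with the same commuting partners are equal, `⟨D⟩` is `S₅` -/
theorem closure_equiv_perm_five {D : Set G} (hD : IsThreeTranspositionSet D)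
    (hconj : ∀ g : G, ∀ d ∈ D, g * d * g⁻¹ ∈ D) (hne : D.Nonempty)
    (hS : ∀ d ∈ D, Nonempty (↥(Subgroup.closure (Dd D d)) ≃* Equiv.Perm (Fin 3)))
    (hP : ∀ x ∈ D, ∀ y ∈ D, Dd D x = Dd D y → x = y) :
    Nonempty (↥(Subgroup.closure D) ≃* Equiv.Perm (Fin 5)) := by
  obtain ⟨d, hd⟩ := hne
  obtain ⟨a, ha, -⟩ := Dd_exists_ne_of_s3' (hS d hd) d
  have haD := ha.1
  obtain ⟨a₁, ha₁, ha₁d⟩ := Dd_exists_ne_of_s3' (hS a haD) d
  have ha₁D := ha₁.1
  obtain ⟨y, hy, hya⟩ := Dd_exists_ne_of_s3' (hS a₁ ha₁D) a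
  have hyD := hy.1
  have hda : d ∈ Dd D a := Dd_symm hd ha
  have haa₁ : a ∈ Dd D a₁ := Dd_symm haD ha₁
  have n1 : ¬ Commute a₁ d := Dd_not_commute_of_s3 hD (hS a haD) ha₁ hda ha₁d
  have n3 : ¬ Commute y a := Dd_not_commute_of_s3 hD (hS a₁ ha₁D) hy haa₁ hya
  have n2 : ¬ Commute d y := by
    intro hc
    have hyd : y ≠ d := by
      rintro rfl
      exact n1 hy.2.2
    have hyDd : y ∈ Dd D d := ⟨hyD, hyd, hc⟩
    have e := Dd_eq_of_two hD hconj hS hd ha₁D ha hyDd haa₁ hy (Ne.symm hya)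
    exact ha₁d (hP d hd a₁ ha₁D e).symm
  have hd2 := sq_one (hD.1 d hd)
  have ha2 := sq_one (hD.1 a haD)
  have ha₁2 := sq_one (hD.1 a₁ ha₁D)
  have hy2 := sq_one (hD.1 y hyD)
  have cube : ∀ {u v : G}, u ∈ D → v ∈ D → ¬ Commute u v → (u * v) ^ 3 = 1 := by
    intro u v hu hv hn
    rcases hD.2 u hu v hv with h | h
    · exact absurd (commute_of_sq (sq_one (hD.1 u hu)) (sq_one (hD.1 v hv)) h) hn
    · exact h
  obtain ⟨φ, h1, h2, h3, h4⟩ := exists_perm_five_hom (s₁ := a₁) (s₂ := d) (s₃ := y) (s₄ := a)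
    ha₁2 hd2 hy2 ha2 (cube ha₁D hd n1) (cube hd hyD n2) (cube hyD haD n3) hy.2.2
    ha₁.2.2.symm ha.2.2
  have hinj : Function.Injective φ := perm_five_hom_injective φ (by rw [h1, h2]; exact ha₁d)
  have hT1 : ∀ i j : Fin 5, i ≠ j → φ (Equiv.swap i j) ∈ D := by
    intro i j hij
    obtain ⟨τ, hτ⟩ := isConj_iff.mp
      (Equiv.Perm.isConj_swap (by decide : (0 : Fin 5) ≠ 1) hij)
    rw [← hτ, map_mul, map_mul, map_inv, h1]
    exact hconj _ _ ha₁D
  have hmem : ∀ i j k l : Fin 5, i ≠ j → k ≠ l → k ≠ i → k ≠ j → l ≠ i → l ≠ j →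
      φ (Equiv.swap k l) ∈ Dd D (φ (Equiv.swap i j)) := by
    intro i j k l hij hkl hki hkj hli hlj
    refine ⟨hT1 k l hkl, ?_, ?_⟩
    · intro h
      have h' := hinj h
      have h'' := congrArg (fun f : Equiv.Perm (Fin 5) => f k) h'
      simp only [Equiv.swap_apply_left] at h''
      rw [Equiv.swap_apply_of_ne_of_ne hki hkj] at h''
      exact hkl h''.symm
    · have hdis : Equiv.Perm.Disjoint (Equiv.swap i j) (Equiv.swap k l) :=
        Equiv.Perm.disjoint_swap_swap (by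
          simp only [List.nodup_cons, List.mem_cons, List.not_mem_nil, or_false, not_or,
            List.nodup_nil, and_true, not_false_eq_true]
          exact ⟨⟨hij, hki.symm, hli.symm⟩, ⟨hkj.symm, hlj.symm⟩, hkl⟩)
      exact hdis.commute.map φ
  have hT2 : ∀ i j : Fin 5, i ≠ j → ∀ w ∈ Dd D (φ (Equiv.swap i j)),
      ∃ k l : Fin 5, k ≠ l ∧ w = φ (Equiv.swap k l) := by
    intro i j hij w hw
    obtain ⟨k, l, m, hki, hkj, hli, hlj, hmi, hmj, hkl, hkm, hlm⟩ := fin5_exists_three i j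
    have hp := hmem i j k l hij hkl hki hkj hli hlj
    have hq := hmem i j k m hij hkm hki hkj hmi hmj
    have hpq : φ (Equiv.swap k l) ≠ φ (Equiv.swap k m) := by
      intro h
      have h' := hinj h
      have h'' := congrArg (fun f : Equiv.Perm (Fin 5) => f k) h'
      simp only [Equiv.swap_apply_left] at h''
      exact hlm h''
    rcases Dd_triple_of_s3 hD (hS _ (hT1 i j hij)) hp hq hw hpq with rfl | rfl | rfl
    · exact ⟨k, l, hkl, rfl⟩
    · exact ⟨k, m, hkm, rfl⟩
    · refine ⟨l, m, hlm, ?_⟩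
      rw [← map_mul, ← map_mul]
      congr 1
      rw [Equiv.swap_comm k m]
      exact Equiv.swap_mul_swap_mul_swap hkm.symm hlm.symm
  have key : ∀ w ∈ D, (Commute d w ∨ Commute a w) →
      ∃ k l : Fin 5, k ≠ l ∧ w = φ (Equiv.swap k l) := by
    intro w hw hc
    rcases hc with hc | hc
    · by_cases hwd : w = d
      · exact ⟨1, 2, by decide, by rw [hwd, h2]⟩
      · exact hT2 1 2 (by decide) w (by rw [h2]; exact ⟨hw, hwd, hc⟩)
    · by_cases hwa : w = a
      · exact ⟨3, 4, by decide, by rw [hwa, h4]⟩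
      · exact hT2 3 4 (by decide) w (by rw [h4]; exact ⟨hw, hwa, hc⟩)
  have hall : ∀ w ∈ D, ∃ k l : Fin 5, k ≠ l ∧ w = φ (Equiv.swap k l) := by
    intro w hw
    by_cases hc : Commute d w ∨ Commute a w
    · exact key w hw hc
    · push Not at hc
      obtain ⟨hdw, haw⟩ := hc
      have hx := conj_pair_mem_Dd hD hconj hd haD hw ha.2.2 ha.2.1.symm
        (fun h => hdw h.symm) (fun h => haw h.symm)
      obtain ⟨w', hw', hw'x⟩ := Dd_exists_ne_of_s3' (hS w hw) ((d * a) * w * (d * a)⁻¹)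
      have hw'D := hw'.1
      have hc' : Commute d w' ∨ Commute a w' := by
        by_contra hcon
        push Not at hcon
        have hx' := conj_pair_mem_Dd hD hconj hd haD hw'D ha.2.2 ha.2.1.symm
          (fun h => hcon.1 h.symm) (fun h => hcon.2 h.symm)
        have hx'2 := Dd_conj_mem hconj (d * a) hw'
        have e := Dd_eq_of_two hD hconj hS hx'.1 hw (Dd_symm hw'D hx') (Dd_symm hx.1 hx'2)
          hw' hx hw'x
        have e' := hP _ hx'.1 w hw e
        apply hw'x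
        have hcc : (d * a) * (d * a) = 1 := by
          calc (d * a) * (d * a) = d * (a * d) * a := by group
            _ = d * (d * a) * a := by rw [ha.2.2.eq]
            _ = (d * d) * (a * a) := by group
            _ = 1 := by rw [hd2, ha2, one_mul]
        have hci : (d * a)⁻¹ = d * a := inv_self hcc
        rw [hci] at e' ⊢
        calc w' = ((d * a) * (d * a)) * w' * ((d * a) * (d * a)) := by rw [hcc]; group
          _ = (d * a) * ((d * a) * w' * (d * a)) * (d * a) := by group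
          _ = (d * a) * w * (d * a) := by rw [e']
      obtain ⟨k, l, hkl, rfl⟩ := key w' hw'D hc'
      exact hT2 k l hkl w (Dd_symm hw hw')
  have heq : Subgroup.closure D = φ.range := by
    apply le_antisymm
    · rw [Subgroup.closure_le]
      intro w hw
      obtain ⟨k, l, -, rfl⟩ := hall w hw
      exact ⟨_, rfl⟩
    · rintro _ ⟨σ, rfl⟩
      have hσ : σ ∈ Subgroup.closure {τ : Equiv.Perm (Fin 5) | τ.IsSwap} := by
        rw [Equiv.Perm.closure_isSwap]; trivial
      induction hσ using Subgroup.closure_induction with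
      | mem τ hτ =>
        obtain ⟨i, j, hij, rfl⟩ := hτ
        exact Subgroup.subset_closure (hT1 i j hij)
      | one => rw [map_one]; exact Subgroup.one_mem _
      | mul τ τ' _ _ h1 h2 => rw [map_mul]; exact Subgroup.mul_mem _ h1 h2
      | inv τ _ h1 => rw [map_inv]; exact Subgroup.inv_mem _ h1
  exact ⟨(MulEquiv.subgroupCongr heq).trans (MonoidHom.ofInjective hinj).symm⟩

/-! ### The `K₃,₃` case -/

/-- two members of `O₃(G)` centralising `d`, the first non-trivial: the second is a power of the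
first when `O₃(C(d))` has order 3 -/
theorem mem_zpowers_of_pCore_centralizer [Finite G] {d u r : G}
    (hcard : Nat.card (pCore 3 ↥(Subgroup.centralizer ({d} : Set G))) = 3)
    (hu : u ∈ pCore 3 G) (hud : Commute d u) (hu1 : u ≠ 1) (hr : r ∈ pCore 3 G)
    (hrd : Commute d r) : r ∈ Subgroup.zpowers u := by
  have : Fact (Nat.Prime 3) := ⟨Nat.prime_three⟩
  obtain ⟨C, hC⟩ : ∃ C : Subgroup G, C = Subgroup.centralizer ({d} : Set G) := ⟨_, rfl⟩
  rw [← hC] at hcard
  have hmemC : ∀ x : G, Commute d x → x ∈ C := by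
    intro x hx
    rw [hC, Subgroup.mem_centralizer_iff]
    intro y hy
    rw [Set.mem_singleton_iff] at hy
    rw [hy]; exact hx.eq
  have hn : ((pCore 3 G).subgroupOf C).Normal :=
    Subgroup.Normal.subgroupOf (pCore_normal (G := G) 3) C
  have hp : IsPGroup 3 ((pCore 3 G).subgroupOf C) := by
    rw [← Subgroup.comap_subtype]
    exact (pCore_isPGroup (G := G) 3).comap_subtype
  have hle : (pCore 3 G).subgroupOf C ≤ pCore 3 ↥C := le_sSup ⟨hn, hp⟩
  have hu' : (⟨u, hmemC u hud⟩ : ↥C) ∈ pCore 3 ↥C :=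
    hle (by rw [Subgroup.mem_subgroupOf]; exact hu)
  have hr' : (⟨r, hmemC r hrd⟩ : ↥C) ∈ pCore 3 ↥C :=
    hle (by rw [Subgroup.mem_subgroupOf]; exact hr)
  have hne : (⟨⟨u, hmemC u hud⟩, hu'⟩ : ↥(pCore 3 ↥C)) ≠ 1 := by
    intro h
    apply hu1
    have h1 := congrArg (fun x : ↥(pCore 3 ↥C) => ((x : ↥C) : G)) h
    simpa using h1
  have htop := zpowers_eq_top_of_prime_card hcard hne
  have hmem : (⟨⟨r, hmemC r hrd⟩, hr'⟩ : ↥(pCore 3 ↥C)) ∈
      Subgroup.zpowers (⟨⟨u, hmemC u hud⟩, hu'⟩ : ↥(pCore 3 ↥C)) := by rw [htop]; trivial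
  obtain ⟨k, hk⟩ := Subgroup.mem_zpowers_iff.mp hmem
  refine Subgroup.mem_zpowers_iff.mpr ⟨k, ?_⟩
  have h1 := congrArg (fun x : ↥(pCore 3 ↥C) => ((x : ↥C) : G)) hk
  simpa using h1

theorem k33_aux [Finite G] (hBS : Cfsg.Agent.H75.BrauerSuzukiStmt.{u}) {D : Set G}
    (hD : IsThreeTranspositionSet D) (hconj : ∀ g : G, ∀ d ∈ D, g * d * g⁻¹ ∈ D)
    (hS : ∀ d ∈ D, Nonempty (↥(Subgroup.closure (Dd D d)) ≃* Equiv.Perm (Fin 3)))
    (hO : ∀ d ∈ D, Nat.card (pCore 3 ↥(Subgroup.centralizer ({d} : Set G))) = 3)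
    {d d' a β z : G} (hd : d ∈ D) (hd' : d' ∈ D) (hne : d ≠ d') (hW : Dd D d = Dd D d')
    (ha : a ∈ Dd D d) (hβ : β ∈ Dd D d) (haβ : a ≠ β) (hz : z ∈ D)
    (hzd : ¬ Commute z d) (hza : ¬ Commute z a) (hzβ : ¬ Commute z β)
    (h : (d' * a) * z * (d' * a)⁻¹ = (d * β) * z * (d * β)⁻¹) : False := by
  have haD := ha.1
  have hβD := hβ.1
  have ha' : a ∈ Dd D d' := hW ▸ ha
  have hβ' : β ∈ Dd D d' := hW ▸ hβ
  have hd2 := sq_one (hD.1 d hd)
  have hd'2 := sq_one (hD.1 d' hd')
  have ha2 := sq_one (hD.1 a haD)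
  have hβ2 := sq_one (hD.1 β hβD)
  have hz2 := sq_one (hD.1 z hz)
  have hdi := inv_self hd2
  have hd'i := inv_self hd'2
  have hai := inv_self ha2
  have hβi := inv_self hβ2
  have hzi := inv_self hz2
  have cda : Commute d a := ha.2.2
  have cdβ : Commute d β := hβ.2.2
  have cd'a : Commute d' a := ha'.2.2
  have cd'β : Commute d' β := hβ'.2.2
  have nab : ¬ Commute a β := Dd_not_commute_of_s3 hD (hS d hd) ha hβ haβ
  have ndd' : ¬ Commute d d' :=
    Dd_not_commute_of_s3 hD (hS a haD) (Dd_symm hd ha) (Dd_symm hd' ha') hne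
  obtain ⟨u, hu⟩ : ∃ u : G, u = d * d' * (β * a) := ⟨_, rfl⟩
  have hWβa : WSim D β a := ⟨hβD, haD, Dd_eq_of_two hD hconj hS hβD haD (Dd_symm hd hβ)
    (Dd_symm hd' hβ') (Dd_symm hd ha) (Dd_symm hd' ha') hne⟩
  have hβaN : β * a ∈ pCore 3 G := WSim.mul_mem_pCore_three hBS hD hconj hWβa
  have hddN : d * d' ∈ pCore 3 G := WSim.mul_mem_pCore_three hBS hD hconj ⟨hd, hd', hW⟩
  have huN : u ∈ pCore 3 G := by rw [hu]; exact Subgroup.mul_mem _ hddN hβaN
  have huz : Commute u z := by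
    have e1 : (d * β)⁻¹ * (d' * a) = u := by
      rw [hu, mul_inv_rev, hdi, hβi]
      calc β * d * (d' * a) = (β * d) * d' * a := by group
        _ = (d * β) * d' * a := by rw [cdβ.eq]
        _ = d * (β * d') * a := by group
        _ = d * (d' * β) * a := by rw [cd'β.eq]
        _ = d * d' * (β * a) := by group
    rw [← e1]
    show (d * β)⁻¹ * (d' * a) * z = z * ((d * β)⁻¹ * (d' * a))
    calc (d * β)⁻¹ * (d' * a) * z
        = (d * β)⁻¹ * ((d' * a) * z * (d' * a)⁻¹) * (d' * a) := by group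
      _ = (d * β)⁻¹ * ((d * β) * z * (d * β)⁻¹) * (d' * a) := by rw [h]
      _ = z * ((d * β)⁻¹ * (d' * a)) := by group
  have hinv : u⁻¹ = d' * d * (a * β) := by
    rw [hu, mul_inv_rev, mul_inv_rev, mul_inv_rev, hdi, hd'i, hai, hβi]
    calc a * β * (d' * d) = a * (β * d') * d := by group
      _ = a * (d' * β) * d := by rw [cd'β.eq]
      _ = (a * d') * (β * d) := by group
      _ = (d' * a) * (d * β) := by rw [cd'a.eq, cdβ.eq]
      _ = d' * (a * d) * β := by group
      _ = d' * (d * a) * β := by rw [cda.eq]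
      _ = d' * d * (a * β) := by group
  have hc1 : (d * a) * u * (d * a)⁻¹ = u⁻¹ := by
    rw [hinv, hu, mul_inv_rev, hdi, hai]
    calc d * a * (d * d' * (β * a)) * (a * d)
        = d * (a * d) * d' * β * (a * a) * d := by group
      _ = d * (d * a) * d' * β * 1 * d := by rw [cda.eq, ha2]
      _ = (d * d) * (a * d') * (β * d) := by group
      _ = 1 * (d' * a) * (d * β) := by rw [hd2, cd'a.eq, cdβ.eq]
      _ = d' * (a * d) * β := by group
      _ = d' * (d * a) * β := by rw [cda.eq]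
      _ = d' * d * (a * β) := by group
  have hc2 : (d * β) * u * (d * β)⁻¹ = u⁻¹ := by
    rw [hinv, hu, mul_inv_rev, hdi, hβi]
    calc d * β * (d * d' * (β * a)) * (β * d)
        = d * (β * d) * (d' * β) * a * β * d := by group
      _ = d * (d * β) * (β * d') * a * β * d := by rw [cdβ.eq, cd'β.eq]
      _ = (d * d) * (β * β) * d' * a * (β * d) := by group
      _ = 1 * 1 * d' * a * (d * β) := by rw [hd2, hβ2, cdβ.eq]
      _ = d' * (a * d) * β := by group
      _ = d' * (d * a) * β := by rw [cda.eq]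
      _ = d' * d * (a * β) := by group
  have hy1 := conj_pair_mem_Dd hD hconj hd haD hz cda ha.2.1.symm hzd hza
  have hyβ := conj_pair_mem_Dd hD hconj hd hβD hz cdβ hβ.2.1.symm hzd hzβ
  have huy1 : Commute u ((d * a) * z * (d * a)⁻¹) := by
    have h1 := commute_conj' (d * a) huz
    rw [hc1] at h1
    exact Commute.inv_left_iff.mp h1
  have huyβ : Commute u ((d * β) * z * (d * β)⁻¹) := by
    have h1 := commute_conj' (d * β) huz
    rw [hc2] at h1
    exact Commute.inv_left_iff.mp h1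
  have hy1β : (d * a) * z * (d * a)⁻¹ ≠ (d * β) * z * (d * β)⁻¹ := by
    intro h'
    have e1 : (d * β)⁻¹ * (d * a) = β * a := by
      rw [mul_inv_rev, hdi, hβi]
      calc β * d * (d * a) = β * (d * d) * a := by group
        _ = β * a := by rw [hd2, mul_one]
    have hc : Commute z (β * a) := by
      rw [← e1]
      show z * ((d * β)⁻¹ * (d * a)) = (d * β)⁻¹ * (d * a) * z
      calc z * ((d * β)⁻¹ * (d * a))
          = (d * β)⁻¹ * ((d * β) * z * (d * β)⁻¹) * (d * a) := by group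
        _ = (d * β)⁻¹ * ((d * a) * z * (d * a)⁻¹) * (d * a) := by rw [h']
        _ = (d * β)⁻¹ * (d * a) * z := by group
    exact hza (commute_of_commute_rotation hD haD hβD hz nab hc)
  have hall : ∀ α ∈ Dd D z, Commute u α := by
    intro α hα
    rcases Dd_triple_of_s3 hD (hS z hz) hy1 hyβ hα hy1β with rfl | rfl | rfl
    · exact huy1
    · exact huyβ
    · exact (huy1.mul_right huyβ).mul_right huy1
  have hu1 : u ≠ 1 := by
    intro h1
    apply ndd'
    have e : d * d' = a * β := by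
      have h2 : d * d' = (β * a)⁻¹ := eq_inv_of_mul_eq_one_left (by rw [← hu]; exact h1)
      rw [h2, mul_inv_rev, hai, hβi]
    have hc : Commute d (d * d') := by rw [e]; exact cda.mul_right cdβ
    have h2 : Commute d (d⁻¹ * (d * d')) := (Commute.refl d).inv_right.mul_right hc
    rwa [inv_mul_cancel_left] at h2
  obtain ⟨g, hg⟩ : ∃ g : G, g = z * d := ⟨_, rfl⟩
  have bzd : z * d * z = d * z * d := (commute_or_braid hD hz hd).resolve_left hzd
  have hgz : g * z * g⁻¹ = d := by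
    rw [hg, mul_inv_rev, hdi, hzi]
    calc z * d * z * (d * z) = (z * d * z) * d * z := by group
      _ = (d * z * d) * d * z := by rw [bzd]
      _ = d * z * (d * d) * z := by group
      _ = d * (z * z) := by rw [hd2]; group
      _ = d := by rw [hz2, mul_one]
  have hgd : g⁻¹ * d * g⁻¹⁻¹ = z := by rw [← hgz]; group
  have hu₁N : g * u * g⁻¹ ∈ pCore 3 G := (pCore_normal (G := G) 3).conj_mem u huN g
  have hu₁d : Commute d (g * u * g⁻¹) := by
    have h1 := commute_conj' g huz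
    rw [hgz] at h1
    exact h1.symm
  have hu₁1 : g * u * g⁻¹ ≠ 1 := by
    intro h1
    apply hu1
    have e : u = g⁻¹ * (g * u * g⁻¹) * g := by group
    rw [e, h1]; group
  have hβad : Commute d (β * a) := cdβ.mul_right cda
  have hmem := mem_zpowers_of_pCore_centralizer (hO d hd) hu₁N hu₁d hu₁1 hβaN hβad
  have hα : g⁻¹ * a * g⁻¹⁻¹ ∈ Dd D z := by
    have h1 := Dd_conj_mem hconj g⁻¹ ha
    rwa [hgd] at h1
  have hu₁a : Commute (g * u * g⁻¹) a := by
    have h1 := commute_conj' g (hall _ hα)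
    have e : g * (g⁻¹ * a * g⁻¹⁻¹) * g⁻¹ = a := by group
    rwa [e] at h1
  obtain ⟨k, hk⟩ := Subgroup.mem_zpowers_iff.mp hmem
  have hc : Commute (β * a) a := by rw [← hk]; exact hu₁a.zpow_left k
  apply nab
  have e := hc.eq
  have e2 : a * (β * a) * a = a * β := by
    calc a * (β * a) * a = a * β * (a * a) := by group
      _ = a * β := by rw [ha2, mul_one]
  have e3 : β * a * a * a = β * a := by
    calc β * a * a * a = β * a * (a * a) := by group
      _ = β * a := by rw [ha2, mul_one]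
  show a * β = β * a
  rw [← e2, ← e, e3]

theorem k33_closed [Finite G] (hBS : Cfsg.Agent.H75.BrauerSuzukiStmt.{u}) {D : Set G}
    (hD : IsThreeTranspositionSet D) (hconj : ∀ g : G, ∀ d ∈ D, g * d * g⁻¹ ∈ D)
    (hS : ∀ d ∈ D, Nonempty (↥(Subgroup.closure (Dd D d)) ≃* Equiv.Perm (Fin 3)))
    (hO : ∀ d ∈ D, Nat.card (pCore 3 ↥(Subgroup.centralizer ({d} : Set G))) = 3)
    {d d' a b z : G} (hd : d ∈ D) (hd' : d' ∈ D) (hne : d ≠ d') (hW : Dd D d = Dd D d')
    (ha : a ∈ Dd D d) (hb : b ∈ Dd D d) (hab : a ≠ b) (hz : z ∈ D)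
    (hzd : ¬ Commute z d) (hzd' : ¬ Commute z d') (hza : ¬ Commute z a) (hzb : ¬ Commute z b)
    (hzc : ¬ Commute z (a * b * a)) : False := by
  have hc : a * b * a ∈ Dd D d := Dd_conj_self hD hconj ha hb
  have haD := ha.1
  have hbD := hb.1
  have hcD := hc.1
  have ha' : a ∈ Dd D d' := hW ▸ ha
  have hd2 := sq_one (hD.1 d hd)
  have ha2 := sq_one (hD.1 a haD)
  have hdi := inv_self hd2
  have hai := inv_self ha2
  have nab : ¬ Commute a b := Dd_not_commute_of_s3 hD (hS d hd) ha hb hab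
  have ndd' : ¬ Commute d d' :=
    Dd_not_commute_of_s3 hD (hS a haD) (Dd_symm hd ha) (Dd_symm hd' ha') hne
  have hac : a ≠ a * b * a := by
    intro h
    have h1 : b * a = 1 := by
      have h2 : a * 1 = a * (b * a) := by rw [mul_one, ← mul_assoc]; exact h
      exact (mul_left_cancel h2).symm
    have h3 : b = a := by rw [eq_inv_of_mul_eq_one_left h1, hai]
    exact hab h3.symm
  have hbc : b ≠ a * b * a := by
    intro h
    apply nab
    show a * b = b * a
    calc a * b = a * (a * b * a) := by rw [← h]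
      _ = (a * a) * b * a := by group
      _ = b * a := by rw [ha2, one_mul]
  have hy1 := conj_pair_mem_Dd hD hconj hd haD hz ha.2.2 ha.2.1.symm hzd hza
  have hy2 := conj_pair_mem_Dd hD hconj hd hbD hz hb.2.2 hb.2.1.symm hzd hzb
  have hy3 := conj_pair_mem_Dd hD hconj hd hcD hz hc.2.2 hc.2.1.symm hzd hzc
  have hy4 := conj_pair_mem_Dd hD hconj hd' haD hz ha'.2.2 ha'.2.1.symm hzd' hza
  have sep : ∀ {p q : G}, p ∈ Dd D d → q ∈ Dd D d → p ≠ q → ¬ Commute z p →
      (d * p) * z * (d * p)⁻¹ ≠ (d * q) * z * (d * q)⁻¹ := by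
    intro p q hp hq hpq hzp h'
    have hq2 := sq_one (hD.1 q hq.1)
    have npq : ¬ Commute p q := Dd_not_commute_of_s3 hD (hS d hd) hp hq hpq
    have e1 : (d * q)⁻¹ * (d * p) = q * p := by
      rw [mul_inv_rev, hdi, inv_self hq2]
      calc q * d * (d * p) = q * (d * d) * p := by group
        _ = q * p := by rw [hd2, mul_one]
    have hcz : Commute z (q * p) := by
      rw [← e1]
      show z * ((d * q)⁻¹ * (d * p)) = (d * q)⁻¹ * (d * p) * z
      calc z * ((d * q)⁻¹ * (d * p))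
          = (d * q)⁻¹ * ((d * q) * z * (d * q)⁻¹) * (d * p) := by group
        _ = (d * q)⁻¹ * ((d * p) * z * (d * p)⁻¹) * (d * p) := by rw [h']
        _ = (d * q)⁻¹ * (d * p) * z := by group
    exact hzp (commute_of_commute_rotation hD hp.1 hq.1 hz npq hcz)
  have h12 := sep ha hb hab hza
  have h13 := sep ha hc hac hza
  have h23 := sep hb hc hbc hzb
  have h41 : (d' * a) * z * (d' * a)⁻¹ ≠ (d * a) * z * (d * a)⁻¹ := by
    intro h'
    have e1 : (d * a)⁻¹ * (d' * a) = d * d' := by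
      rw [mul_inv_rev, hdi, hai]
      calc a * d * (d' * a) = (a * d) * d' * a := by group
        _ = (d * a) * d' * a := by rw [ha.2.2.eq]
        _ = d * (a * d') * a := by group
        _ = d * (d' * a) * a := by rw [ha'.2.2.eq]
        _ = d * d' * (a * a) := by group
        _ = d * d' := by rw [ha2, mul_one]
    have hcz : Commute z (d * d') := by
      rw [← e1]
      show z * ((d * a)⁻¹ * (d' * a)) = (d * a)⁻¹ * (d' * a) * z
      calc z * ((d * a)⁻¹ * (d' * a))
          = (d * a)⁻¹ * ((d * a) * z * (d * a)⁻¹) * (d' * a) := by group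
        _ = (d * a)⁻¹ * ((d' * a) * z * (d' * a)⁻¹) * (d' * a) := by rw [h']
        _ = (d * a)⁻¹ * (d' * a) * z := by group
    exact hzd' (commute_of_commute_rotation hD hd' hd hz (fun h => ndd' h.symm) hcz)
  rcases Dd_triple_of_s3 hD (hS z hz) hy1 hy2 hy3 h12 with h3 | h3 | h3
  · exact h13 h3.symm
  · exact h23 h3.symm
  rcases Dd_triple_of_s3 hD (hS z hz) hy1 hy2 hy4 h12 with h4 | h4 | h4
  · exact h41 h4
  · exact k33_aux hBS hD hconj hS hO hd hd' hne hW ha hb hab hz hzd hza hzb h4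
  · exact k33_aux hBS hD hconj hS hO hd hd' hne hW ha hc hac hz hzd hza hzc (h4.trans h3.symm)

/-- **Case K**: if two different members have the same commuting partners, `⟨D⟩` is
`S₃ × S₃` -/
theorem closure_equiv_s3_prod [Finite G] (hBS : Cfsg.Agent.H75.BrauerSuzukiStmt.{u})
    {D : Set G} (hD : IsThreeTranspositionSet D) (hconj : ∀ g : G, ∀ d ∈ D, g * d * g⁻¹ ∈ D)
    (hS : ∀ d ∈ D, Nonempty (↥(Subgroup.closure (Dd D d)) ≃* Equiv.Perm (Fin 3)))
    (hO : ∀ d ∈ D, Nat.card (pCore 3 ↥(Subgroup.centralizer ({d} : Set G))) = 3)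
    {d d' : G} (hd : d ∈ D) (hd' : d' ∈ D) (hne : d ≠ d') (hW : Dd D d = Dd D d') :
    Nonempty (↥(Subgroup.closure D) ≃* Equiv.Perm (Fin 3) × Equiv.Perm (Fin 3)) := by
  obtain ⟨a, ha, b, hb, hab⟩ := Dd_exists_ne_of_s3 (hS d hd)
  have haD := ha.1
  have hbD := hb.1
  have ha' : a ∈ Dd D d' := hW ▸ ha
  have hb' : b ∈ Dd D d' := hW ▸ hb
  have hda : d ∈ Dd D a := Dd_symm hd ha
  have hd'a : d' ∈ Dd D a := Dd_symm hd' ha'
  have hc : a * b * a ∈ Dd D d := Dd_conj_self hD hconj ha hb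
  have hc' : a * b * a ∈ Dd D d' := hW ▸ hc
  have eab : Dd D b = Dd D a := Dd_eq_of_two hD hconj hS hbD haD (Dd_symm hd hb)
    (Dd_symm hd' hb') hda hd'a hne
  have eac : Dd D (a * b * a) = Dd D a := Dd_eq_of_two hD hconj hS hc.1 haD (Dd_symm hd hc)
    (Dd_symm hd' hc') hda hd'a hne
  have hcover : ∀ z ∈ D, z ∈ Dd D a ∨ z ∈ Dd D d := by
    intro z hz
    by_contra hcon
    push Not at hcon
    obtain ⟨hza, hzd⟩ := hcon
    have n1 : ¬ Commute z d := by
      intro h
      by_cases hzd1 : z = d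
      · exact hza (hzd1 ▸ hda)
      · exact hzd ⟨hz, hzd1, h.symm⟩
    have n2 : ¬ Commute z d' := by
      intro h
      by_cases hzd1 : z = d'
      · exact hza (hzd1 ▸ hd'a)
      · exact hzd (hW.symm ▸ (⟨hz, hzd1, h.symm⟩ : z ∈ Dd D d'))
    have n3 : ¬ Commute z a := by
      intro h
      by_cases hza1 : z = a
      · exact hzd (hza1 ▸ ha)
      · exact hza ⟨hz, hza1, h.symm⟩
    have n4 : ¬ Commute z b := by
      intro h
      by_cases hzb1 : z = b
      · exact hzd (hzb1 ▸ hb)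
      · exact hza (eab ▸ (⟨hz, hzb1, h.symm⟩ : z ∈ Dd D b))
    have n5 : ¬ Commute z (a * b * a) := by
      intro h
      by_cases hzc1 : z = a * b * a
      · exact hzd (hzc1 ▸ hc)
      · exact hza (eac ▸ (⟨hz, hzc1, h.symm⟩ : z ∈ Dd D (a * b * a)))
    exact k33_closed hBS hD hconj hS hO hd hd' hne hW ha hb hab hz n1 n2 n3 n4 n5
  have hcomm0 : ∀ x ∈ Dd D a, ∀ y ∈ Dd D d, Commute x y := by
    intro x hx y hy
    have hy' : y ∈ Dd D d' := hW ▸ hy
    rcases Dd_triple_of_s3 hD (hS a haD) hda hd'a hx hne with rfl | rfl | rfl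
    · exact hy.2.2
    · exact hy'.2.2
    · exact (hy.2.2.mul_left hy'.2.2).mul_left hy.2.2
  have hcomm : ∀ (x : ↥(Subgroup.closure (Dd D a))) (y : ↥(Subgroup.closure (Dd D d))),
      Commute (x : G) (y : G) := by
    have h1 : Subgroup.closure (Dd D d) ≤
        Subgroup.centralizer (Subgroup.closure (Dd D a) : Set G) := by
      rw [Subgroup.centralizer_closure, Subgroup.closure_le]
      intro y hy
      rw [SetLike.mem_coe, Subgroup.mem_centralizer_iff]
      intro x hx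
      exact (hcomm0 x hx y hy).eq
    intro x y
    have h2 := h1 y.2
    rw [Subgroup.mem_centralizer_iff] at h2
    exact h2 x x.2
  obtain ⟨ψ, hψ⟩ : ∃ ψ : ↥(Subgroup.closure (Dd D a)) × ↥(Subgroup.closure (Dd D d)) →* G,
      ∀ x, ψ x = (x.1 : G) * (x.2 : G) :=
    ⟨(Subgroup.closure (Dd D a)).subtype.noncommCoprod (Subgroup.closure (Dd D d)).subtype
      (fun x y => hcomm x y), fun x => rfl⟩
  obtain ⟨φ₁⟩ := hS a haD
  obtain ⟨φ₂⟩ := hS d hd
  have hinj : Function.Injective ψ := by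
    rw [← MonoidHom.ker_eq_bot_iff, eq_bot_iff]
    rintro ⟨x, y⟩ hxy
    rw [MonoidHom.mem_ker, hψ] at hxy
    have hxy' : (x : G) * (y : G) = 1 := hxy
    have hxc : ∀ w : ↥(Subgroup.closure (Dd D a)), x * w = w * x := by
      intro w
      apply Subtype.ext
      show (x : G) * w = w * x
      have e : (x : G) = (y : G)⁻¹ := eq_inv_of_mul_eq_one_left hxy'
      rw [e]
      exact ((hcomm w y).inv_right).eq.symm
    have hx1 : x = 1 := by
      have h1 : φ₁ x = 1 := perm3_center (φ₁ x) (fun τ => by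
        have h2 := congrArg φ₁ (hxc (φ₁.symm τ))
        simpa using h2)
      exact φ₁.injective (by rw [h1, map_one])
    have hy1 : y = 1 := by
      apply Subtype.ext
      rw [hx1] at hxy'
      simpa using hxy'
    rw [Subgroup.mem_bot, hx1, hy1]
    rfl
  have hrange : ψ.range = Subgroup.closure D := by
    apply le_antisymm
    · rintro _ ⟨⟨x, y⟩, rfl⟩
      rw [hψ]
      have h1 : Subgroup.closure (Dd D a) ≤ Subgroup.closure D :=
        Subgroup.closure_mono (fun w hw => hw.1)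
      have h2 : Subgroup.closure (Dd D d) ≤ Subgroup.closure D :=
        Subgroup.closure_mono (fun w hw => hw.1)
      exact Subgroup.mul_mem _ (h1 x.2) (h2 y.2)
    · rw [Subgroup.closure_le]
      intro z hz
      rcases hcover z hz with h | h
      · exact ⟨(⟨z, Subgroup.subset_closure h⟩, 1), by rw [hψ]; simp⟩
      · exact ⟨(1, ⟨z, Subgroup.subset_closure h⟩), by rw [hψ]; simp⟩
  exact ⟨((MulEquiv.subgroupCongr hrange).symm.trans (MonoidHom.ofInjective hinj).symm).trans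
    (MulEquiv.prodCongr φ₁ φ₂)⟩

end local_s3

end Cfsg.Agent.H91
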