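import Mathlib
import Cfsg.Agent.H4.TnDefs
import Cfsg.Agent.H4.IrrCount
import Cfsg.Agent.H82.Irr

/-!
# S3805 (helper4's TN project), piece TN-INV (helper91): the involution formula
-/

set_option autoImplicit false

namespace Cfsg.Agent.H91.Tn

open Cfsg Cfsg.Agent.H4.Tn

universe u

section

variable {G : Type u} [Group G] [Fintype G]

theorem card_sub_eq_sum {α : Type u} [Fintype α] (p : α → Prop) [DecidablePred p] :
    (Nat.card {y : α // p y} : ℂ) = ∑ y : α, if p y then (1 : ℂ) else 0 := by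
  rw [Nat.card_eq_fintype_card, Fintype.card_subtype, Finset.card_filter]
  push_cast
  rfl

open Classical in
/-- Sums over `a ↦ a x a⁻¹` versus sums over the class of `x`. -/
theorem conj_sum (x : G) (g : G → ℂ) :
    (Nat.card {y : G // IsConj x y} : ℂ) * ∑ a : G, g (a * x * a⁻¹) =
      (Nat.card G : ℂ) * ∑ y : G, (if IsConj x y then g y else 0) := by
  classical
  obtain ⟨m, hmdef⟩ : ∃ m : G → ℂ, ∀ y, m y = ∑ a : G, if a * x * a⁻¹ = y then (1 : ℂ) else 0 :=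
    ⟨_, fun _ => rfl⟩
  have hm : ∀ y, m y = if IsConj x y then m x else 0 := by
    intro y
    by_cases hy : IsConj x y
    · rw [if_pos hy, hmdef, hmdef]
      obtain ⟨c, hc⟩ := isConj_iff.mp hy
      rw [← Equiv.sum_comp (Equiv.mulLeft c) (fun a => if a * x * a⁻¹ = y then (1 : ℂ) else 0)]
      refine Finset.sum_congr rfl fun a _ => ?_
      have h1 : (c * a) * x * (c * a)⁻¹ = y ↔ a * x * a⁻¹ = x := by
        rw [← hc]
        constructor
        · intro h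
          have h2 : c * (a * x * a⁻¹) * c⁻¹ = c * x * c⁻¹ := by rw [← h]; group
          exact mul_left_cancel (mul_right_cancel h2)
        · intro h
          calc c * a * x * (c * a)⁻¹ = c * (a * x * a⁻¹) * c⁻¹ := by group
            _ = c * x * c⁻¹ := by rw [h]
      simp only [Equiv.coe_mulLeft, h1]
    · rw [if_neg hy, hmdef]
      apply Finset.sum_eq_zero
      intro a _
      rw [if_neg]
      intro h
      exact hy (isConj_iff.mpr ⟨a, h⟩)
  have hsum : ∀ g' : G → ℂ, ∑ a : G, g' (a * x * a⁻¹) =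
      m x * ∑ y : G, (if IsConj x y then g' y else 0) := by
    intro g'
    have h1 : ∀ a : G, g' (a * x * a⁻¹) = ∑ y : G, (if a * x * a⁻¹ = y then g' y else 0) := by
      intro a; simp
    rw [Finset.sum_congr rfl (fun a _ => h1 a), Finset.sum_comm, Finset.mul_sum]
    refine Finset.sum_congr rfl fun y _ => ?_
    have h2 : ∑ a : G, (if a * x * a⁻¹ = y then g' y else 0) = m y * g' y := by
      rw [hmdef, Finset.sum_mul]
      refine Finset.sum_congr rfl fun a _ => ?_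
      split_ifs <;> simp
    rw [h2, hm y]
    split_ifs <;> simp
  have hk : (Nat.card G : ℂ) = m x * (Nat.card {y : G // IsConj x y} : ℂ) := by
    have h := hsum (fun _ => 1)
    simp only [Finset.sum_const, Finset.card_univ, nsmul_eq_mul, mul_one] at h
    rw [Nat.card_eq_fintype_card, h, card_sub_eq_sum]
  rw [hsum g, hk]; ring

open Classical in
theorem conj_sum2 (x : G) (h : G → G → ℂ) :
    (Nat.card {y : G // IsConj x y} : ℂ) ^ 2 *
        ∑ a : G, ∑ b : G, h (a * x * a⁻¹) (b * x * b⁻¹) =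
      (Nat.card G : ℂ) ^ 2 *
        ∑ y : G, ∑ y' : G, (if IsConj x y ∧ IsConj x y' then h y y' else 0) := by
  classical
  have h1 : ∀ a : G, (Nat.card {y : G // IsConj x y} : ℂ) *
      ∑ b : G, h (a * x * a⁻¹) (b * x * b⁻¹) =
      (Nat.card G : ℂ) * ∑ y' : G, (if IsConj x y' then h (a * x * a⁻¹) y' else 0) :=
    fun a => conj_sum x (fun z => h (a * x * a⁻¹) z)
  have h2 := conj_sum x (fun y => ∑ y' : G, if IsConj x y' then h y y' else 0)
  calc (Nat.card {y : G // IsConj x y} : ℂ) ^ 2 *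
        ∑ a : G, ∑ b : G, h (a * x * a⁻¹) (b * x * b⁻¹)
      = (Nat.card {y : G // IsConj x y} : ℂ) * ∑ a : G,
          ((Nat.card {y : G // IsConj x y} : ℂ) * ∑ b : G, h (a * x * a⁻¹) (b * x * b⁻¹)) := by
        rw [← Finset.mul_sum]; ring
    _ = (Nat.card {y : G // IsConj x y} : ℂ) * ∑ a : G,
          ((Nat.card G : ℂ) * ∑ y' : G, (if IsConj x y' then h (a * x * a⁻¹) y' else 0)) := by
        rw [Finset.sum_congr rfl (fun a _ => h1 a)]
    _ = (Nat.card G : ℂ) * ((Nat.card {y : G // IsConj x y} : ℂ) * ∑ a : G,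
          ∑ y' : G, (if IsConj x y' then h (a * x * a⁻¹) y' else 0)) := by
        rw [← Finset.mul_sum]; ring
    _ = (Nat.card G : ℂ) * ((Nat.card G : ℂ) * ∑ y : G,
          (if IsConj x y then ∑ y' : G, (if IsConj x y' then h y y' else 0) else 0)) := by
        rw [h2]
    _ = _ := by
        rw [← mul_assoc, ← pow_two]
        congr 1
        refine Finset.sum_congr rfl fun y _ => ?_
        by_cases hy : IsConj x y
        · rw [if_pos hy]
          refine Finset.sum_congr rfl fun y' _ => ?_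
          by_cases hy' : IsConj x y'
          · rw [if_pos hy', if_pos ⟨hy, hy'⟩]
          · rw [if_neg hy', if_neg (fun h => hy' h.2)]
        · rw [if_neg hy]
          symm
          apply Finset.sum_eq_zero
          intro y' _
          rw [if_neg (fun h => hy h.1)]

end

/-- **TN-INV**. -/
theorem inv (hV : StVals.{u}) (hL : StPairsLoc.{u}) (hG : StPairsGlob.{u}) : StInv.{u} := by
  intro G _ _ T a b u v cfg χ₁ χ₂ hdec x hx
  classical
  have : Fintype G := Fintype.ofFinite G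
  obtain ⟨-, -, -, -, hinv⟩ := hV G T a b u v cfg
  have hx' : x ∉ S1G a b u := hinv x hx
  have h1' : (1 : G) ∉ S1G a b u := hinv 1 (by simp)
  have hP : ∀ g : G, P1 a b u g = if g ∈ S1G a b u then 3 else 0 := by
    intro g; simp [P1, Set.indicator]
  have e1 := hdec 1
  have ex := hdec x
  rw [hP, if_neg h1'] at e1
  rw [hP, if_neg hx'] at ex
  obtain ⟨n, hn, hf⟩ := Cfsg.Agent.H4.irr_one_eq_natCast χ₁
  have hf' : χ₁.1 1 = (n : ℂ) := hf
  obtain ⟨f, hfdef⟩ : ∃ f : ℂ, χ₁.1 1 = f := ⟨_, rfl⟩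
  obtain ⟨c, hcdef⟩ : ∃ c : ℂ, χ₁.1 x = c := ⟨_, rfl⟩
  rw [hfdef] at e1 hf'
  rw [hcdef] at ex
  rw [hfdef, hcdef]
  have hf0 : f ≠ 0 := by rw [hf']; exact_mod_cast hn.ne'
  have hf1 : f + 1 ≠ 0 := by rw [hf']; exact_mod_cast (Nat.succ_ne_zero n)
  have hχ21 : χ₂.1 1 = f + 1 := by linear_combination -e1
  have hχ2x : χ₂.1 x = c + 1 := by linear_combination -ex
  have hS1 := Cfsg.Agent.H82.irr_sum_sum χ₁ x x
  have hS2 := Cfsg.Agent.H82.irr_sum_sum χ₂ x x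
  rw [hfdef, hcdef] at hS1
  rw [hχ21, hχ2x] at hS2
  obtain ⟨S₁, hS₁⟩ : ∃ S₁ : ℂ, ∑ a : G, ∑ b : G, χ₁.1 (a * x * a⁻¹ * (b * x * b⁻¹)) = S₁ :=
    ⟨_, rfl⟩
  obtain ⟨S₂, hS₂⟩ : ∃ S₂ : ℂ, ∑ a : G, ∑ b : G, χ₂.1 (a * x * a⁻¹ * (b * x * b⁻¹)) = S₂ :=
    ⟨_, rfl⟩
  rw [hS₁] at hS1
  rw [hS₂] at hS2
  obtain ⟨Gc, hGc⟩ : ∃ Gc : ℂ, (Nat.card G : ℂ) = Gc := ⟨_, rfl⟩
  rw [hGc] at hS1 hS2
  have hGc0 : Gc ≠ 0 := by
    rw [← hGc]; exact_mod_cast (Nat.card_pos (α := G)).ne'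
  have hS1' : S₁ * f = Gc ^ 2 * c ^ 2 := by rw [hS1]; field_simp
  have hS2' : S₂ * (f + 1) = Gc ^ 2 * (c + 1) ^ 2 := by rw [hS2]; field_simp
  have hstar := conj_sum2 x (fun y y' => P1 a b u (y * y'))
  have hL1 : ∑ r : G, ∑ s : G, P1 a b u (r * x * r⁻¹ * (s * x * s⁻¹)) = Gc ^ 2 + S₁ - S₂ := by
    have hdec' : ∀ g : G, P1 a b u g = 1 + χ₁.1 g - χ₂.1 g := fun g => (hdec g).symm
    simp only [hdec']
    simp only [Finset.sum_sub_distrib, Finset.sum_add_distrib, Finset.sum_const,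
      Finset.card_univ, nsmul_eq_mul, mul_one]
    rw [hS₁, hS₂, ← Nat.card_eq_fintype_card, hGc]; ring
  have hR : ∑ y : G, ∑ y' : G, (if IsConj x y ∧ IsConj x y' then P1 a b u (y * y') else 0) =
      3 * (Nat.card {p : G × G // IsConj x p.1 ∧ IsConj x p.2 ∧ p.1 * p.2 ∈ S1G a b u} : ℂ) := by
    rw [card_sub_eq_sum, Fintype.sum_prod_type, Finset.mul_sum]
    refine Finset.sum_congr rfl fun y _ => ?_
    rw [Finset.mul_sum]
    refine Finset.sum_congr rfl fun y' _ => ?_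
    rw [hP]
    by_cases h1 : IsConj x y <;> by_cases h2 : IsConj x y' <;>
      by_cases h3 : y * y' ∈ S1G a b u <;> simp [h1, h2, h3]
  beta_reduce at hstar
  rw [hL1, hR, hGc] at hstar
  have hGl := hG G T a b u v cfg x
  have hLo := hL G T a b u v cfg x hx
  have hGl' : 36 * (Nat.card {p : G × G // IsConj x p.1 ∧ IsConj x p.2 ∧
      p.1 * p.2 ∈ S1G a b u} : ℂ) = Gc * (Nat.card {p : G × G // IsConj x p.1 ∧ IsConj x p.2 ∧
      p.1 * p.2 ∈ S1 a b u} : ℂ) := by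
    rw [← hGc]; exact_mod_cast hGl
  have hLo' : 3 * (Nat.card {p : G × G // IsConj x p.1 ∧ IsConj x p.2 ∧
      p.1 * p.2 ∈ S1 a b u} : ℂ) =
      2 * (Nat.card {y : G // IsConj x y ∧ y * a * y⁻¹ = a⁻¹} : ℂ) ^ 2 := by
    exact_mod_cast hLo
  obtain ⟨NG, hNG⟩ : ∃ NG : ℂ, (Nat.card {p : G × G // IsConj x p.1 ∧ IsConj x p.2 ∧
      p.1 * p.2 ∈ S1G a b u} : ℂ) = NG := ⟨_, rfl⟩
  obtain ⟨NL, hNL⟩ : ∃ NL : ℂ, (Nat.card {p : G × G // IsConj x p.1 ∧ IsConj x p.2 ∧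
      p.1 * p.2 ∈ S1 a b u} : ℂ) = NL := ⟨_, rfl⟩
  obtain ⟨kc, hkc⟩ : ∃ kc : ℂ, (Nat.card {y : G // IsConj x y} : ℂ) = kc := ⟨_, rfl⟩
  obtain ⟨ic, hic⟩ : ∃ ic : ℂ, (Nat.card {y : G // IsConj x y ∧ y * a * y⁻¹ = a⁻¹} : ℂ) = ic :=
    ⟨_, rfl⟩
  rw [hNG, hkc] at hstar
  rw [hNG, hNL] at hGl'
  rw [hNL, hic] at hLo'
  rw [hkc, hic, hGc]
  have E' : Gc ^ 2 * (kc ^ 2 * (f - c) ^ 2) = Gc ^ 2 * (3 * NG * f * (f + 1)) := by
    linear_combination f * (f + 1) * hstar - kc ^ 2 * (f + 1) * hS1' + kc ^ 2 * f * hS2'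
  have E'' : kc ^ 2 * (f - c) ^ 2 = 3 * NG * f * (f + 1) :=
    mul_left_cancel₀ (pow_ne_zero 2 hGc0) E'
  linear_combination 18 * E'' + (3 / 2) * f * (f + 1) * hGl' + (1 / 2) * f * (f + 1) * Gc * hLo'

example : ∀ (_ : StVals.{u}) (_ : StPairsLoc.{u}) (_ : StPairsGlob.{u}), StInv.{u} := inv

end Cfsg.Agent.H91.Tn
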